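import Mathlib
import Cfsg.Agent.Lib.Fus.InvMapBasic
import Cfsg.Agent.Lib.Fus.InvMapLocal
import Cfsg.Agent.Lib.Fus.InvariantExtensionMain
import Cfsg.Agent.Lib.Fus.ResidualInvariant
import Cfsg.Agent.Lib.Fus.GroupHyperfocal

/-!
The product of a normal subsystem over `T` with a subgroup `R ≥ T`: maps trivial modulo `T` lying
in the subsystem on the trace on `T`, and the maps generated by them and by conjugations.
-/

set_option autoImplicit false
set_option linter.style.haveILetI false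
set_option linter.unusedSectionVars false

open scoped Classical

universe u

namespace Cfsg.Agent.Fus.ProdSub

open Subgroup FusionSystem

/-! ### Group lemmas -/

/-- An element killed by a power of `p` lies in the powers of each of its powers of exponent prime
to `p`. -/
theorem exists_pow_pow_eq {G : Type*} [Monoid G] {p : ℕ} {x : G} {n k : ℕ}
    (hn : n.Coprime p) (hx : x ^ p ^ k = 1) : ∃ u : ℕ, (x ^ n) ^ u = x := by
  have h : n.Coprime (orderOf x) :=
    (hn.pow_right k).coprime_dvd_right (orderOf_dvd_of_pow_eq_one hx)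
  exact exists_pow_eq_self_of_coprime h

/-- An element of order prime to `p` is a power of each of its `p`-power powers. -/
theorem exists_pow_ppow_eq {G : Type*} [Monoid G] {p : ℕ} {x : G}
    (hx : (orderOf x).Coprime p) (k : ℕ) : ∃ u : ℕ, (x ^ p ^ k) ^ u = x :=
  exists_pow_eq_self_of_coprime (hx.pow_right k).symm

/-- Two elements of order prime to `p` differing by an element of an abelian `p`-subgroup
normalized by the first are conjugate by an element of it. -/
theorem exists_conj_of_coprime {G : Type*} [Group G] [Finite G] {p : ℕ} (K : Subgroup G)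
    (hab : ∀ a ∈ K, ∀ b ∈ K, a * b = b * a) (hK : IsPGroup p K) {m δ : G} (hδ : δ ∈ K)
    (hm : ∀ a ∈ K, m⁻¹ * a * m ∈ K) (h1 : (orderOf m).Coprime p)
    (h2 : (orderOf (m * δ)).Coprime p) : ∃ k ∈ K, k * m * k⁻¹ = m * δ := by
  set σ : G → G := fun a => m⁻¹ * a * m with hσ
  have σmul : ∀ a b, σ (a * b) = σ a * σ b := fun a b => by simp [hσ, mul_assoc]
  let P : ℕ → G := fun j => Nat.rec 1 (fun _ q => σ q * δ) j
  let L : ℕ → G := fun j => Nat.rec 1 (fun i q => q * P i) j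
  have hP : ∀ j, P j ∈ K := by
    intro j
    induction j with
    | zero => exact K.one_mem
    | succ j ih => exact K.mul_mem (hm _ ih) hδ
  have hL : ∀ j, L j ∈ K := by
    intro j
    induction j with
    | zero => exact K.one_mem
    | succ j ih => exact K.mul_mem ih (hP j)
  have hpow : ∀ j, (m * δ) ^ j = m ^ j * P j := by
    intro j
    induction j with
    | zero => simp [P]
    | succ j ih =>
      rw [pow_succ, ih, pow_succ]
      show m ^ j * P j * (m * δ) = m ^ j * m * (σ (P j) * δ)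
      simp [hσ, mul_assoc]
  have hσL : ∀ j, σ (L j) * δ ^ j = L j * P j := by
    intro j
    induction j with
    | zero =>
      show σ 1 * δ ^ 0 = 1 * 1
      simp [hσ]
    | succ j ih =>
      show σ (L j * P j) * δ ^ (j + 1) = L j * P j * (σ (P j) * δ)
      rw [σmul, pow_succ, show σ (L j) * σ (P j) * (δ ^ j * δ) =
        σ (L j) * (σ (P j) * δ ^ j) * δ by group, hab _ (hm _ (hP j)) _ (K.pow_mem hδ j), ← ih]
      simp [hσ, mul_assoc]
  set n := orderOf m * orderOf (m * δ) with hn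
  have hnc : n.Coprime p := Nat.Coprime.mul_left h1 h2
  have hPn : P n = 1 := by
    have e := hpow n
    rw [hn, pow_mul' (m * δ), pow_orderOf_eq_one, one_pow, pow_mul m, pow_orderOf_eq_one,
      one_pow, one_mul] at e
    exact e.symm
  have h3 := hσL n
  rw [hPn, mul_one] at h3
  obtain ⟨i, hi⟩ := hK ⟨δ, hδ⟩
  obtain ⟨u, hu⟩ := exists_pow_pow_eq hnc
    (show δ ^ p ^ i = 1 from congrArg Subtype.val hi)
  set k := ((L n)⁻¹) ^ u with hk
  have hkK : k ∈ K := K.pow_mem (K.inv_mem (hL n)) u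
  refine ⟨k, hkK, ?_⟩
  have hc : Commute (δ ^ n) (L n)⁻¹ := hab _ (K.pow_mem hδ n) _ (K.inv_mem (hL n))
  have h4 : σ (L n)⁻¹ = δ ^ n * (L n)⁻¹ := by
    have : σ (L n)⁻¹ = (σ (L n))⁻¹ := by simp [hσ, mul_assoc]
    rw [this, eq_mul_inv_of_mul_eq h3, mul_inv_rev, inv_inv]
  have h5 : σ k = δ * k := by
    have hsk : σ k = (σ (L n)⁻¹) ^ u := by
      have := map_pow (MulAut.conj m⁻¹) (L n)⁻¹ u
      simpa [hσ, hk, mul_assoc] using this
    rw [hsk, h4, hc.mul_pow, hu, hk]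
  calc k * m * k⁻¹ = m * σ k * k⁻¹ := by simp [hσ, mul_assoc]
    _ = m * δ := by rw [h5]; group

variable {Ω : Type u} [Group Ω] {S T R : Subgroup Ω} {F : FusionSystem S} {E : FusionSystem T}
  {p : ℕ}

/-! ### Maps trivial modulo `T` -/

/-- The function is trivial modulo `T` on `P`. -/
def TMod (T P : Subgroup Ω) (f : Ω → Ω) : Prop := ∀ x ∈ P, x⁻¹ * f x ∈ T

theorem TMod.apply_mem_sup {P : Subgroup Ω} {f : Ω → Ω} (h : TMod T P f) {x : Ω} (hx : x ∈ P) :
    f x ∈ P ⊔ T := by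
  simpa using Subgroup.mul_mem_sup hx (h x hx)

theorem fimg_sup_eq {P : Subgroup Ω} {f : Ω → Ω} (h : TMod T P f) :
    fimg f P ⊔ T = P ⊔ T := by
  refine le_antisymm (sup_le (fimg_le fun x hx => h.apply_mem_sup hx) le_sup_right)
    (sup_le (fun x hx => ?_) le_sup_right)
  have := Subgroup.mul_mem_sup (apply_mem_fimg f hx) (T.inv_mem (h x hx)) (T := T)
  simpa [mul_assoc] using this

/-- A coprime automorphism trivial modulo `K` is trivial modulo `M` if it is so on `K`. -/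
theorem coprime_mod {P K M : Subgroup Ω} [Finite P] (hP : IsPGroup p P) {α : MulAut P}
    (hα : (orderOf α).Coprime p) (h1 : TMod K P (autFun α))
    (h2 : ∀ q ∈ P, q ∈ K → q⁻¹ * autFun α q ∈ M)
    (hMK : ∀ m ∈ M, m ∈ P → m ∈ K) : TMod M P (autFun α) := by
  intro x hx
  set f := autFun α with hf
  have fm : ∀ {a b : Ω}, a ∈ P → b ∈ P → f (a * b) = f a * f b := fun {a b} ha hb => by
    rw [hf, show autFun α (a * b) = ((α (⟨a, ha⟩ * ⟨b, hb⟩) : P) : Ω) from
      autFun_coe α (⟨a, ha⟩ * ⟨b, hb⟩), map_mul, show autFun α a = ((α ⟨a, ha⟩ : P) : Ω) from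
      autFun_coe α ⟨a, ha⟩, show autFun α b = ((α ⟨b, hb⟩ : P) : Ω) from autFun_coe α ⟨b, hb⟩]
    rfl
  have fP : ∀ {a : Ω}, a ∈ P → f a ∈ P := fun ha => autFun_mem α ha
  set q := x⁻¹ * f x with hq
  have hqK : q ∈ K := h1 x hx
  have hqP : q ∈ P := P.mul_mem (P.inv_mem hx) (fP hx)
  have fM : ∀ m ∈ M, m ∈ P → f m ∈ M := fun m hm hmP => by
    have h3 := M.mul_mem hm (h2 m hmP (hMK m hm hmP))
    rwa [show m * (m⁻¹ * autFun α m) = f m by rw [← hf]; group] at h3
  have fq : ∀ i : ℕ, ∃ m, m ∈ M ∧ m ∈ P ∧ f (q ^ i) = q ^ i * m := fun i =>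
    ⟨(q ^ i)⁻¹ * f (q ^ i), h2 _ (P.pow_mem hqP i) (K.pow_mem hqK i),
      P.mul_mem (P.inv_mem (P.pow_mem hqP i)) (fP (P.pow_mem hqP i)), by group⟩
  have key : ∀ i : ℕ, ∃ m, m ∈ M ∧ m ∈ P ∧ autFun (α ^ i) x = x * q ^ i * m := by
    intro i
    induction i with
    | zero => exact ⟨1, M.one_mem, P.one_mem, by rw [pow_zero, autFun_one hx]; simp⟩
    | succ i ih =>
      obtain ⟨m, hm, hmP, he⟩ := ih
      obtain ⟨m', hm', hm'P, he'⟩ := fq i
      refine ⟨m' * f m, M.mul_mem hm' (fM m hm hmP), P.mul_mem hm'P (fP hmP), ?_⟩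
      rw [pow_succ', autFun_mul _ _ hx, he, ← hf, fm (P.mul_mem hx (P.pow_mem hqP i)) hmP,
        fm hx (P.pow_mem hqP i), he', show f x = x * q by rw [hq]; group, pow_succ']
      group
  obtain ⟨m, hm, -, he⟩ := key (orderOf α)
  rw [pow_orderOf_eq_one, autFun_one hx] at he
  have hqn : q ^ orderOf α ∈ M := by
    have e1 : q ^ orderOf α * m = 1 := by
      rwa [mul_assoc, left_eq_mul] at he
    rw [eq_inv_of_mul_eq_one_left e1]
    exact M.inv_mem hm
  obtain ⟨k, hk⟩ := hP ⟨q, hqP⟩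
  obtain ⟨u, hu⟩ := exists_pow_pow_eq hα
    (show q ^ p ^ k = 1 from congrArg Subtype.val hk)
  rw [← hu]
  exact M.pow_mem hqn u

/-- An automorphism of order prime to `p`, trivial modulo `T`, lying in the subsystem on the trace
on `T`. -/
structure Gd (F : FusionSystem S) (E : FusionSystem T) (p : ℕ) {W : Subgroup Ω} (α : MulAut W) :
    Prop where
  isMap : IsMap F W (autFun α)
  coprime : (orderOf α).Coprime p
  tmod : TMod T W (autFun α)
  inE : IsMap E (W ⊓ T) (autFun α)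

theorem Gd.le_S {W : Subgroup Ω} {α : MulAut W} (h : Gd F E p α) : W ≤ S := h.isMap.source_le

/-- The maps generated on subgroups of `R` by conjugations from `C` and by the good automorphisms
of the subgroups with centric trace on `T`. -/
inductive Gen (F : FusionSystem S) (E : FusionSystem T) (p : ℕ) (C R : Subgroup Ω) :
    Subgroup Ω → (Ω → Ω) → Prop
  | conj {P : Subgroup Ω} {f : Ω → Ω} {r : Ω} : P ≤ R → r ∈ C →
      (∀ x ∈ P, f x = r * x * r⁻¹) → Gen F E p C R P f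
  | aut {P W : Subgroup Ω} {α : MulAut W} {f : Ω → Ω} : W ≤ R → E.IsCentric (W ⊓ T) →
      Gd F E p α → P ≤ W → (∀ x ∈ P, f x = autFun α x) → Gen F E p C R P f
  | comp {P Q : Subgroup Ω} {f g h : Ω → Ω} : Gen F E p C R P f → Gen F E p C R Q g →
      (∀ x ∈ P, f x ∈ Q) → (∀ x ∈ P, h x = g (f x)) → Gen F E p C R P h

variable {C : Subgroup Ω}

theorem Gen.res {P Q : Subgroup Ω} {f : Ω → Ω} (h : Gen F E p C R P f) (hQ : Q ≤ P) :
    Gen F E p C R Q f := by
  induction h generalizing Q with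
  | conj hP hr he => exact .conj (hQ.trans hP) hr fun x hx => he x (hQ hx)
  | aut hW hc hg hPW he => exact .aut hW hc hg (hQ.trans hPW) fun x hx => he x (hQ hx)
  | comp _ hg hm he ih₁ _ =>
    exact .comp (ih₁ hQ) hg (fun x hx => hm x (hQ hx)) fun x hx => he x (hQ hx)

theorem Gen.congr {P : Subgroup Ω} {f f' : Ω → Ω} (h : Gen F E p C R P f)
    (e : ∀ x ∈ P, f' x = f x) : Gen F E p C R P f' := by
  induction h with
  | conj hP hr he => exact .conj hP hr fun x hx => (e x hx).trans (he x hx)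
  | aut hW hc hg hPW he => exact .aut hW hc hg hPW fun x hx => (e x hx).trans (he x hx)
  | comp hf hg hm he _ _ => exact .comp hf hg hm fun x hx => (e x hx).trans (he x hx)

theorem Gen.source_le {P : Subgroup Ω} {f : Ω → Ω} (h : Gen F E p C R P f) : P ≤ R := by
  induction h with
  | conj hP _ _ => exact hP
  | aut hW _ _ hPW _ => exact hPW.trans hW
  | comp _ _ _ _ ih _ => exact ih

theorem Gen.apply_mem {P : Subgroup Ω} {f : Ω → Ω} (hCR : C ≤ R) (h : Gen F E p C R P f) :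
    ∀ x ∈ P, f x ∈ R := by
  induction h with
  | conj hP hr he =>
    exact fun x hx => he x hx ▸ R.mul_mem (R.mul_mem (hCR hr) (hP hx)) (R.inv_mem (hCR hr))
  | aut hW _ _ hPW he => exact fun x hx => he x hx ▸ hW (autFun_mem _ (hPW hx))
  | comp _ _ hm he _ ih => exact fun x hx => he x hx ▸ ih _ (hm x hx)

theorem Gen.isMap {P : Subgroup Ω} {f : Ω → Ω} (hCR : C ≤ R) (hRS : R ≤ S)
    (h : Gen F E p C R P f) : IsMap F P f := by
  induction h with
  | conj hP hr he =>
    exact (isMap_conj F (hP.trans hRS) (hRS (hCR hr))).congr fun x hx => (he x hx).symm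
  | aut _ _ hg hPW he => exact (hg.isMap.res hPW).congr fun x hx => (he x hx).symm
  | comp _ _ hm he ih₁ ih₂ => exact (ih₁.comp ih₂ hm).congr fun x hx => (he x hx).symm

theorem Gen.id {P : Subgroup Ω} (hP : P ≤ R) : Gen F E p C R P fun x => x :=
  .conj hP C.one_mem fun x _ => by simp

/-- The inverse of a generated map is generated. -/
theorem Gen.inv [Finite S] {P : Subgroup Ω} {f : Ω → Ω} (hCR : C ≤ R) (hRS : R ≤ S)
    (h : Gen F E p C R P f) :
    ∀ g : Ω → Ω, (∀ x ∈ P, g (f x) = x) → Gen F E p C R (fimg f P) g := by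
  induction h with
  | @conj P f r hP hr he =>
    intro g hg
    refine .conj (fimg_le fun x hx => he x hx ▸
      R.mul_mem (R.mul_mem (hCR hr) (hP hx)) (R.inv_mem (hCR hr))) (C.inv_mem hr) fun y hy => ?_
    obtain ⟨x, hx, rfl⟩ := ((Gen.conj (F := F) (E := E) (p := p) hP hr he).isMap hCR
      hRS).mem_fimg_iff.1 hy
    rw [hg x hx, he x hx]
    group
  | @aut P W α f hW hc hgd hPW he =>
    intro g hg
    have hinv : Gd F E p α⁻¹ := by
      obtain ⟨k, hk⟩ : ∃ k, orderOf α⁻¹ = k := ⟨_, rfl⟩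
      have hWS := hgd.le_S
      haveI := finite_of_le hWS
      refine ⟨(mem_autGroup hWS).1 (inv_mem ((mem_autGroup hWS).2 hgd.isMap)),
        by rw [orderOf_inv]; exact hgd.coprime, fun x hx => ?_, ?_⟩
      · have h1 := hgd.tmod _ (autFun_mem α⁻¹ hx)
        rw [← autFun_mul _ _ hx, mul_inv_cancel, autFun_one hx] at h1
        simpa using T.inv_mem h1
      · obtain ⟨g', hg', hg1, -, -⟩ := hgd.inE.exists_inv
        have himg : fimg (autFun α) (W ⊓ T) = W ⊓ T := by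
          haveI : Finite ↥(W ⊓ T) := finite_of_le (S := W) inf_le_left
          exact Subgroup.eq_of_le_of_card_ge (fimg_le fun x hx =>
            ⟨autFun_mem α hx.1, hgd.inE.apply_mem hx⟩) hgd.inE.card_fimg.ge
        rw [himg] at hg'
        refine hg'.congr fun y hy => ?_
        obtain ⟨x, hx, rfl⟩ := hgd.inE.mem_fimg_iff.1 (himg.ge hy)
        rw [hg1 x hx, autFun_inv_apply α hx.1]
    refine .aut hW hc hinv (fimg_le fun x hx => he x hx ▸ autFun_mem α (hPW hx)) fun y hy => ?_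
    obtain ⟨x, hx, rfl⟩ := ((Gen.aut (C := C) hW hc hgd hPW he).isMap hCR hRS).mem_fimg_iff.1 hy
    rw [hg x hx, he x hx, autFun_inv_apply α (hPW hx)]
  | @comp P Q f₁ f₂ h hf₁ hf₂ hm he ih₁ ih₂ =>
    intro g hg
    obtain ⟨g₁, -, e₁, -, -⟩ := (hf₁.isMap hCR hRS).exists_inv
    obtain ⟨g₂, -, e₂, -, -⟩ := (hf₂.isMap hCR hRS).exists_inv
    have key : ∀ x ∈ P, g₂ (h x) = f₁ x := fun x hx => by rw [he x hx, e₂ _ (hm x hx)]
    have hle : fimg h P ≤ fimg f₂ Q := fimg_le fun x hx => he x hx ▸ apply_mem_fimg f₂ (hm x hx)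
    have hh := (Gen.comp hf₁ hf₂ hm he).isMap hCR hRS
    refine .comp ((ih₂ g₂ e₂).res hle) (ih₁ g₁ e₁) (fun y hy => ?_) fun y hy => ?_
    · obtain ⟨x, hx, rfl⟩ := hh.mem_fimg_iff.1 hy
      rw [key x hx]
      exact apply_mem_fimg f₁ hx
    · obtain ⟨x, hx, rfl⟩ := hh.mem_fimg_iff.1 hy
      rw [key x hx, hg x hx, e₁ x hx]

/-! ### Maps trivial modulo `T` up to a conjugation -/

/-- After undoing the conjugation by `r` the map is trivial modulo `T` and lies in the subsystem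
on the trace on `T`. -/
structure RelAt (F : FusionSystem S) (E : FusionSystem T) (r : Ω) (P : Subgroup Ω)
    (f : Ω → Ω) : Prop where
  isMap : IsMap F P f
  tmod : TMod T P fun x => r⁻¹ * f x * r
  inE : IsMap E (P ⊓ T) fun x => r⁻¹ * f x * r

theorem RelAt.congr {r : Ω} {P : Subgroup Ω} {f f' : Ω → Ω} (h : RelAt F E r P f)
    (e : ∀ x ∈ P, f x = f' x) : RelAt F E r P f' :=
  ⟨h.isMap.congr e, fun x hx => by simp only [← e x hx]; exact h.tmod x hx,
    h.inE.congr fun x hx => by simp only [e x hx.1]⟩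

theorem RelAt.comp (hE : E.IsInvariantIn F) {r s : Ω} {P Q : Subgroup Ω} {f g : Ω → Ω}
    (hr : r ∈ S) (hf : RelAt F E r P f) (hg : RelAt F E s Q g) (h : ∀ x ∈ P, f x ∈ Q) :
    RelAt F E (s * r) P fun x => g (f x) := by
  have hT := hE.2.1
  have hcT : ∀ t ∈ T, r⁻¹ * t * r ∈ T := fun t ht => by
    simpa using StronglyClosed.conj_mem' hT (S.inv_mem hr) ht
  refine ⟨hf.isMap.comp hg.isMap h, fun x hx => ?_, ?_⟩
  · have h1 := T.mul_mem (hf.tmod x hx) (hcT _ (hg.tmod _ (h x hx)))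
    rwa [show x⁻¹ * (r⁻¹ * f x * r) * (r⁻¹ * ((f x)⁻¹ * (s⁻¹ * g (f x) * s)) * r) =
      x⁻¹ * ((s * r)⁻¹ * g (f x) * (s * r)) by group] at h1
  · obtain ⟨k, hk, hke⟩ := ResInv.strongInv_of_invariant hE (Q ⊓ T) T _ (fun y => r⁻¹ * y * r)
      inf_le_right le_rfl hg.inE (fun y hy => hg.inE.apply_mem hy)
      ((isMap_conj F hT.1 (S.inv_mem hr)).congr fun y _ => by rw [inv_inv])
    have hm : ∀ x ∈ P ⊓ T, f x ∈ Q ⊓ T := fun x hx => ⟨h x hx.1,
      StronglyClosed.apply_mem hT (hf.isMap.res inf_le_left) inf_le_right hx⟩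
    refine ((hf.inE.comp hk) fun x hx => apply_mem_fimg (fun y => r⁻¹ * y * r) (hm x hx)).congr
      fun x hx => ?_
    rw [hke _ (hm x hx)]
    group

theorem RelAt.conj (hT : F.StronglyClosed T) {P : Subgroup Ω} {r : Ω} (hP : P ≤ S) (hr : r ∈ S) :
    RelAt F E r P fun x => r * x * r⁻¹ :=
  ⟨isMap_conj F hP hr, fun x _ => by
      simp only [show r⁻¹ * (r * x * r⁻¹) * r = x by group, inv_mul_cancel]
      exact T.one_mem,
    (isMap_id E inf_le_right).congr fun x _ => by group⟩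

theorem Gd.relAt {W P : Subgroup Ω} {α : MulAut W} (h : Gd F E p α) (hP : P ≤ W) :
    RelAt F E 1 P (autFun α) :=
  ⟨h.isMap.res hP, fun x hx => by simpa using h.tmod x (hP hx),
    (h.inE.res (inf_le_inf_right _ hP)).congr fun x _ => by simp⟩

/-- A generated map is trivial modulo `T` and in the subsystem up to a conjugation. -/
theorem Gen.relAt (hE : E.IsInvariantIn F) (hCR : C ≤ R) (hRS : R ≤ S) {P : Subgroup Ω}
    {f : Ω → Ω} (h : Gen F E p C R P f) : ∃ r ∈ C, RelAt F E r P f := by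
  induction h with
  | @conj P f r hP hr he =>
    exact ⟨r, hr, (RelAt.conj hE.2.1 (hP.trans hRS) (hRS (hCR hr))).congr
      fun x hx => (he x hx).symm⟩
  | aut hW _ hg hPW he =>
    exact ⟨1, C.one_mem, (hg.relAt hPW).congr fun x hx => (he x hx).symm⟩
  | comp _ _ hm he ih₁ ih₂ =>
    obtain ⟨r, hr, hf⟩ := ih₁
    obtain ⟨s, hs, hg⟩ := ih₂
    exact ⟨s * r, C.mul_mem hs hr, (hf.comp hE (hRS (hCR hr)) hg hm).congr
      fun x hx => (he x hx).symm⟩

/-- An automorphism of order prime to `p` trivial modulo `T` up to a conjugation is good. -/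
theorem gd_of_relAt [Finite S] (hS : IsPGroup p S) (hE : E.IsInvariantIn F) {W : Subgroup Ω}
    {α : MulAut W} {r : Ω} (hr : r ∈ S) (hα : (orderOf α).Coprime p)
    (h : RelAt F E r W (autFun α)) : Gd F E p α := by
  have hT := hE.2.1
  have hWS := h.isMap.source_le
  have hpow : ∀ {a : MulAut W} {t : Ω}, t ∈ S → RelAt F E t W (autFun a) →
      ∀ j : ℕ, RelAt F E (t ^ j) W (autFun (a ^ j)) := by
    intro a t ht ha j
    induction j with
    | zero =>
      rw [pow_zero]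
      exact (RelAt.conj hT hWS S.one_mem).congr fun x hx => by
        rw [pow_zero, autFun_one hx]; simp
    | succ j ih =>
      rw [pow_succ' t]
      exact (ih.comp hE (S.pow_mem ht j) ha fun x hx => autFun_mem _ hx).congr fun x hx => by
        rw [pow_succ', autFun_mul _ _ hx]
  obtain ⟨k, hk⟩ := hS ⟨r, hr⟩
  have h1 := hpow hr h (p ^ k)
  rw [show r ^ p ^ k = 1 from congrArg Subtype.val hk] at h1
  obtain ⟨u, hu⟩ := exists_pow_ppow_eq hα k
  have h2 := hpow S.one_mem h1 u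
  rw [hu, one_pow] at h2
  exact ⟨h.isMap, hα, fun x hx => by simpa using h2.tmod x hx,
    h2.inE.congr fun x _ => by simp⟩

/-! ### The system -/

/-- The system generated by the conjugations from `R` and the good automorphisms. -/
noncomputable def sys [Finite S] (F : FusionSystem S) (E : FusionSystem T) (p : ℕ)
    (hRS : R ≤ S) : FusionSystem R where
  Hom P := {φ | Gen F E p R R P (toFun φ)}
  le_of_mem {P φ} h := ⟨h.source_le, fun x => toFun_coe φ x ▸ h.apply_mem le_rfl x x.2⟩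
  injective_of_mem {P φ} h := fun x y hxy => Subtype.ext ((h.isMap le_rfl hRS).injOn x.2 y.2 (by
    rw [toFun_coe, toFun_coe, hxy]))
  conj_mem {P g} hP hg := Gen.conj hP hg fun x hx => toFun_apply (conjHom P g) hx
  comp_mem {P Q φ ψ} hφ hψ hmem :=
    Gen.comp hφ hψ (fun x hx => by rw [toFun_apply φ hx]; exact hmem _) fun x hx => by
      rw [toFun_apply _ hx, toFun_apply φ hx, toFun_apply ψ (hmem _)]
      rfl
  inv_mem {P φ} hφ := by
    obtain ⟨g, hg, hg1, -, -⟩ := (hφ.isMap le_rfl hRS).exists_inv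
    obtain ⟨ψ, hψ, hψe⟩ := hg.exists_hom
    have hr : φ.range = fimg (toFun φ) P :=
      (hφ.isMap le_rfl hRS).range_eq_fimg fun x => (toFun_coe φ x).symm
    have hgen := Gen.inv le_rfl hRS hφ g hg1
    obtain ⟨ψ', hψ'⟩ : ∃ ψ' : φ.range →* Ω, ∀ y : φ.range, ψ' y = g y :=
      ⟨ψ.comp (Subgroup.inclusion hr.le), fun y => hψe _⟩
    refine ⟨ψ', ?_, fun x => ?_⟩
    · show Gen F E p R R φ.range (toFun ψ')
      exact (hgen.res hr.le).congr fun y hy => by rw [toFun_apply ψ' hy]; exact hψ' ⟨y, hy⟩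
    · rw [hψ']
      show g (φ x) = x
      rw [← toFun_coe φ x]
      exact hg1 x x.2

variable [Finite S] {hRS : R ≤ S}

theorem isMap_sys {P : Subgroup Ω} {f : Ω → Ω} :
    IsMap (sys F E p hRS) P f ↔ Gen F E p R R P f := by
  constructor
  · rintro ⟨φ, hφ, he⟩
    exact Gen.congr (f := toFun φ) hφ fun x hx => by
      rw [toFun_apply φ hx]; exact (he ⟨x, hx⟩).symm
  · intro h
    obtain ⟨φ, -, he⟩ := (h.isMap le_rfl hRS).exists_hom
    exact ⟨φ, h.congr fun x hx => by rw [toFun_apply φ hx]; exact he ⟨x, hx⟩, he⟩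

theorem sys_subsystem : (sys F E p hRS).IsSubsystemOf F :=
  fun _ _ h => mem_hom_iff.2 (Gen.isMap le_rfl hRS h)

/-- The automorphisms of order prime to `p` in the system are good. -/
theorem gd_of_sys (hS : IsPGroup p S) (hE : E.IsInvariantIn F) {W : Subgroup Ω} (hW : W ≤ R)
    {α : MulAut W} (hα : α ∈ (sys F E p hRS).autGroup W) (ho : (orderOf α).Coprime p) :
    Gd F E p α := by
  obtain ⟨r, hr, h⟩ :=
    (isMap_sys.1 ((Fus.mem_autGroup hW).1 hα)).relAt hE le_rfl hRS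
  exact gd_of_relAt hS hE (hRS hr) ho h

theorem gd_mem_sys {W : Subgroup Ω} (hW : W ≤ R) (hc : E.IsCentric (W ⊓ T)) {α : MulAut W}
    (hα : Gd F E p α) : α ∈ (sys F E p hRS).autGroup W :=
  (Fus.mem_autGroup hW).2 (isMap_sys.2 (.aut hW hc hα le_rfl fun _ _ => rfl))

/-! ### Transport -/

variable (hE : E.IsInvariantIn F)
include hE

/-- The trace on `T` of an automorphism in `Gd`. -/
theorem exists_trace {W : Subgroup Ω} {α : MulAut W} (h : IsMap E (W ⊓ T) (autFun α)) :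
    ∃ γ ∈ E.autGroup (W ⊓ T), ∀ x ∈ W ⊓ T, autFun γ x = autFun α x := by
  have hTS := hE.2.1.1
  haveI : Finite ↥(W ⊓ T) := finite_of_le (S := S) (inf_le_right.trans hTS)
  exact h.exists_aut (Subgroup.eq_of_le_of_card_ge
    (fimg_le fun x hx => ⟨autFun_mem α hx.1, h.apply_mem hx⟩) h.card_fimg.ge)

/-- Restriction to an invariant subgroup. -/
theorem Gd.exists_res {W W' : Subgroup Ω} {α : MulAut W} (h : Gd F E p α) (hW : W' ≤ W)
    (hinv : ∀ x ∈ W', autFun α x ∈ W') :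
    ∃ β : MulAut W', Gd F E p β ∧ ∀ x ∈ W', autFun β x = autFun α x := by
  have hm := h.isMap.res hW
  haveI := finite_of_le hm.source_le
  obtain ⟨β, -, hβe⟩ :=
    hm.exists_aut (Subgroup.eq_of_le_of_card_ge (fimg_le hinv) hm.card_fimg.ge)
  refine ⟨β, ⟨hm.congr fun x hx => (hβe x hx).symm, ?_, fun x hx => ?_, ?_⟩, hβe⟩
  · refine h.coprime.coprime_dvd_left (orderOf_dvd_of_pow_eq_one (mulAut_ext fun x hx => ?_))
    rw [← autFun_pow_eq hW (fun y hy => (hβe y hy).symm) _ x hx, pow_orderOf_eq_one,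
      autFun_one (hW hx), autFun_one hx]
  · rw [hβe x hx]; exact h.tmod x (hW hx)
  · exact (h.inE.res (inf_le_inf_right _ hW)).congr fun x hx => (hβe x hx.1).symm

/-- Maps of `F` transport good automorphisms. -/
theorem Gd.congr_map {W V : Subgroup Ω} {v : Ω → Ω} (hv : IsMap F W v) (hvW : fimg v W = V)
    (e : W ≃* V) (he : ∀ x : W, (e x : Ω) = v x) {α : MulAut W} (h : Gd F E p α) :
    Gd F E p (MulAut.congr e α) := by
  have hT := hE.2.1
  obtain ⟨γ, hγ, hγe⟩ := exists_trace hE h.inE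
  have hval : ∀ x ∈ W, autFun (MulAut.congr e α) (v x) = v (autFun α x) := fun x hx =>
    InvMap.autFun_congr e he α hx
  obtain ⟨e₀, he₀, hA⟩ := exists_mulEquiv hv hvW
  have hee : e₀ = e := MulEquiv.ext fun x => Subtype.ext ((he₀ x).trans (he x).symm)
  subst hee
  refine ⟨(mem_autGroup (hvW ▸ hv.fimg_le_S)).1 ((hA α).1 ((mem_autGroup hv.source_le).2 h.isMap)),
    ?_, fun y hy => ?_, ?_⟩
  · rw [MulEquiv.orderOf_eq]; exact h.coprime
  · obtain ⟨x, hx, rfl⟩ := hv.mem_fimg_iff.1 (hvW.ge hy)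
    rw [hval x hx, ← hv.map_inv hx, ← hv.map_mul (W.inv_mem hx) (autFun_mem α hx)]
    exact StronglyClosed.apply_mem hT (hv.res inf_le_left) (inf_le_right : W ⊓ T ≤ T)
      ⟨W.mul_mem (W.inv_mem hx) (autFun_mem α hx), h.tmod x hx⟩
  · have hm := hv.res (inf_le_left : W ⊓ T ≤ W)
    have himg : fimg v (W ⊓ T) = V ⊓ T := by rw [InvClass.fimg_inf hT hv, hvW]
    obtain ⟨e', he', -⟩ := exists_mulEquiv hm himg
    have hγ' := InvClass.congr_autGroup hE inf_le_right hm himg e' he' hγ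
    refine ((mem_autGroup inf_le_right).1 hγ').congr fun y hy => ?_
    obtain ⟨z, hz, rfl⟩ := hm.mem_fimg_iff.1 (himg.ge hy)
    rw [InvMap.autFun_congr e' he' γ hz, hval z hz.1, hγe z hz]

/-- A map defined on `L ≥ T` transports the maps generated without conjugations inside `L`. -/
theorem Gen.twist {L : Subgroup Ω} {β : Ω → Ω} (hβ : IsMap F L β) (hTL : T ≤ L) {P : Subgroup Ω}
    {f : Ω → Ω} (h : Gen F E p ⊥ S P f) : ∀ P' ≤ P, P' ≤ L →
    (∀ x ∈ P', f x ∈ L) ∧ ∀ g : Ω → Ω, (∀ x ∈ P', g (β x) = β (f x)) →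
      Gen F E p ⊥ S (fimg β P') g := by
  induction h with
  | @conj P f r hP hr he =>
    obtain rfl := Subgroup.mem_bot.1 hr
    intro P' hP' hPL
    refine ⟨fun x hx => by rw [he x (hP' hx)]; simpa using hPL hx, fun g hg => ?_⟩
    refine .conj ((hβ.res hPL).fimg_le_S) (Subgroup.one_mem _) fun y hy => ?_
    obtain ⟨x, hx, rfl⟩ := (hβ.res hPL).mem_fimg_iff.1 hy
    rw [hg x hx, he x (hP' hx)]
    simp
  | @aut P W α f hW hc hgd hPW he =>
    intro P' hP' hPL
    have hinv : ∀ x ∈ W ⊓ L, autFun α x ∈ W ⊓ L := fun x hx => ⟨autFun_mem α hx.1, by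
      simpa using L.mul_mem hx.2 (hTL (hgd.tmod x hx.1))⟩
    refine ⟨fun x hx => by rw [he x (hP' hx)]; exact (hinv x ⟨hPW (hP' hx), hPL hx⟩).2,
      fun g hg => ?_⟩
    obtain ⟨α', hα', hαe⟩ := hgd.exists_res hE inf_le_left hinv
    have hm := hβ.res (inf_le_right : W ⊓ L ≤ L)
    obtain ⟨e, he', -⟩ := exists_mulEquiv hm rfl
    have hc' : E.IsCentric (fimg β (W ⊓ L) ⊓ T) := by
      rw [← InvClass.fimg_inf hE.2.1 hm]
      have heq : W ⊓ L ⊓ T = W ⊓ T := by rw [inf_assoc, inf_eq_right.2 hTL]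
      rw [heq]
      exact InvClass.centric_transport hE hc (hβ.res (inf_le_right.trans hTL))
    refine .aut hm.fimg_le_S hc' (Gd.congr_map hE hm rfl e he' hα')
      (fimg_mono β (le_inf (hP'.trans hPW) hPL)) fun y hy => ?_
    obtain ⟨x, hx, rfl⟩ := (hβ.res hPL).mem_fimg_iff.1 hy
    have hx' : x ∈ W ⊓ L := ⟨hPW (hP' hx), hPL hx⟩
    rw [hg x hx, he x (hP' hx), InvMap.autFun_congr e he' α' hx', hαe x hx']
  | @comp P Q f₁ f₂ h hf _ hm he ih₁ ih₂ =>
    intro P' hP' hPL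
    obtain ⟨hm₁, ht₁⟩ := ih₁ P' hP' hPL
    have hf1 : IsMap F P' f₁ := (hf.isMap bot_le le_rfl).res hP'
    obtain ⟨hm₂, ht₂⟩ := ih₂ (fimg f₁ P') (fimg_le fun x hx => hm x (hP' hx)) (fimg_le hm₁)
    refine ⟨fun x hx => he x (hP' hx) ▸ hm₂ _ (apply_mem_fimg f₁ hx), fun g hg => ?_⟩
    obtain ⟨b, -, hb1, -, -⟩ := hβ.exists_inv
    have h1 := ht₁ (fun y => β (f₁ (b y))) fun x hx => by rw [hb1 x (hPL hx)]
    have h2 := ht₂ (fun y => β (f₂ (b y))) fun x hx => by rw [hb1 x (fimg_le hm₁ hx)]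
    refine .comp h1 h2 (fun y hy => ?_) fun y hy => ?_
    · obtain ⟨x, hx, rfl⟩ := (hβ.res hPL).mem_fimg_iff.1 hy
      show β (f₁ (b (β x))) ∈ _
      rw [hb1 x (hPL hx)]
      exact apply_mem_fimg β (apply_mem_fimg f₁ hx)
    · obtain ⟨x, hx, rfl⟩ := (hβ.res hPL).mem_fimg_iff.1 hy
      show g (β x) = β (f₂ (b (β (f₁ (b (β x))))))
      rw [hg x hx, he x (hP' hx), hb1 x (hPL hx), hb1 _ (hm₁ x hx)]

omit hE in
theorem Gen.tmod (hE : E.IsInvariantIn F) {P : Subgroup Ω} {f : Ω → Ω}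
    (h : Gen F E p ⊥ S P f) : TMod T P f ∧ IsMap E (P ⊓ T) f := by
  obtain ⟨r, hr, h1⟩ := h.relAt hE bot_le le_rfl
  obtain rfl := Subgroup.mem_bot.1 hr
  exact ⟨fun x hx => by simpa using h1.tmod x hx, h1.inE.congr fun x _ => by simp⟩

/-- A map generated without conjugations on a subgroup of `R ≥ T` is generated inside `R`. -/
theorem Gen.shrink {P : Subgroup Ω} {f : Ω → Ω} (h : Gen F E p ⊥ S P f) (hTR : T ≤ R) :
    ∀ P' ≤ P, P' ≤ R → (∀ x ∈ P', f x ∈ R) ∧ Gen F E p ⊥ R P' f := by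
  induction h with
  | @conj P f r hP hr he =>
    intro P' hP' hR
    refine ⟨fun x hx => ?_, .conj hR hr fun x hx => he x (hP' hx)⟩
    obtain rfl := Subgroup.mem_bot.1 hr
    rw [he x (hP' hx)]
    simpa using hR hx
  | @aut P W α f hW hc hgd hPW he =>
    intro P' hP' hR
    have hinv : ∀ x ∈ W ⊓ R, autFun α x ∈ W ⊓ R := fun x hx => ⟨autFun_mem α hx.1, by
      simpa using R.mul_mem hx.2 (hTR (hgd.tmod x hx.1))⟩
    obtain ⟨α', hα', hαe⟩ := hgd.exists_res hE inf_le_left hinv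
    refine ⟨fun x hx => by rw [he x (hP' hx)]; exact (hinv x ⟨hPW (hP' hx), hR hx⟩).2,
      .aut inf_le_right (show E.IsCentric (W ⊓ R ⊓ T) by rwa [inf_assoc, inf_eq_right.2 hTR]) hα'
        (le_inf (hP'.trans hPW) hR) fun x hx => ?_⟩
    rw [he x (hP' hx), hαe x ⟨hPW (hP' hx), hR hx⟩]
  | @comp P Q f₁ f₂ h _ _ hm he ih₁ ih₂ =>
    intro P' hP' hR
    obtain ⟨hm₁, h1⟩ := ih₁ P' hP' hR
    obtain ⟨hm₂, h2⟩ := ih₂ (fimg f₁ P') (fimg_le fun x hx => hm x (hP' hx)) (fimg_le hm₁)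
    exact ⟨fun x hx => he x (hP' hx) ▸ hm₂ _ (apply_mem_fimg f₁ hx),
      .comp h1 h2 (fun x hx => apply_mem_fimg f₁ hx) fun x hx => he x (hP' hx)⟩

omit hE in
/-- Enlarging the conjugations allowed. -/
theorem Gen.mono {C' : Subgroup Ω} (hC : C ≤ C') {P : Subgroup Ω} {f : Ω → Ω}
    (h : Gen F E p C R P f) : Gen F E p C' R P f := by
  induction h with
  | conj hP hr he => exact .conj hP (hC hr) he
  | aut hW hc hg hPW he => exact .aut hW hc hg hPW he
  | comp _ _ hm he ih₁ ih₂ => exact .comp ih₁ ih₂ hm he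

end Cfsg.Agent.Fus.ProdSub
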