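import Mathlib
import Cfsg.Agent.Lib.Fus.ProdSub.Base

/-!
Automorphisms fixing the trace on a strongly closed subgroup and trivial modulo it.
-/

set_option autoImplicit false
set_option linter.style.haveILetI false
set_option linter.unusedSectionVars false

open scoped Classical

universe u

namespace Cfsg.Agent.Fus.ProdSub

open Subgroup FusionSystem

variable {Ω : Type u} [Group Ω] {S T : Subgroup Ω} {F : FusionSystem S} {p : ℕ}

/-- Congruence modulo `T`. -/
theorem tcong_trans {a b c : Ω} (h1 : a⁻¹ * b ∈ T) (h2 : b⁻¹ * c ∈ T) : a⁻¹ * c ∈ T := by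
  simpa [mul_assoc] using T.mul_mem h1 h2

theorem tcong_conj (hT : F.StronglyClosed T) {a b s : Ω} (hs : s ∈ S) (h : a⁻¹ * b ∈ T) :
    (s * a * s⁻¹)⁻¹ * (s * b * s⁻¹) ∈ T := by
  rw [show (s * a * s⁻¹)⁻¹ * (s * b * s⁻¹) = s * (a⁻¹ * b) * s⁻¹ by group]
  exact StronglyClosed.conj_mem' hT hs h

theorem conj_inv_mem (hT : F.StronglyClosed T) {t s : Ω} (hs : s ∈ S) (ht : t ∈ T) :
    s⁻¹ * t * s ∈ T := by
  simpa using StronglyClosed.conj_mem' hT (S.inv_mem hs) ht

theorem normalizerIn_le_inf (hT : F.StronglyClosed T) (P : Subgroup Ω) :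
    normalizerIn S P ≤ normalizerIn S (P ⊓ T) := fun g hg => by
  refine ⟨hg.1, mem_normalizer_of_forall (fun x hx => ?_) fun x hx => ?_⟩
  · exact ⟨(Subgroup.mem_normalizer_iff.1 hg.2 x).1 hx.1, StronglyClosed.conj_mem' hT hg.1 hx.2⟩
  · exact ⟨(Subgroup.mem_normalizer_iff''.1 hg.2 x).1 hx.1, conj_inv_mem hT hg.1 hx.2⟩

theorem le_normalizerIn_inf (hT : F.StronglyClosed T) {P : Subgroup Ω} (hP : P ≤ S) :
    P ≤ normalizerIn S (P ⊓ T) :=
  (le_normalizerIn hP).trans (normalizerIn_le_inf hT P)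

theorem le_normalizer_T (hT : F.StronglyClosed T) {P : Subgroup Ω} (hP : P ≤ S) :
    P ≤ Subgroup.normalizer (T : Set Ω) := fun _ hg =>
  mem_normalizer_of_forall (fun _ hx => StronglyClosed.conj_mem' hT (hP hg) hx)
    fun _ hx => conj_inv_mem hT (hP hg) hx

variable [Finite S]

/-- The automorphisms fixing `P ⊓ T` and trivial modulo it. -/
def Kst (F : FusionSystem S) (T P : Subgroup Ω) (hT : F.StronglyClosed T) :
    Subgroup (F.autGroup P) where
  carrier := {a | ∀ x : P, ((x : Ω) ∈ T → (a : MulAut P) x = x) ∧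
    ((x⁻¹ * (a : MulAut P) x : P) : Ω) ∈ T}
  one_mem' x := ⟨fun _ => rfl, by simp⟩
  mul_mem' {a b} ha hb x := by
    refine ⟨fun hx => ?_, ?_⟩
    · show (a : MulAut P) ((b : MulAut P) x) = x
      rw [(hb x).1 hx, (ha x).1 hx]
    · show ((x⁻¹ * (a : MulAut P) ((b : MulAut P) x) : P) : Ω) ∈ T
      rw [show x⁻¹ * (a : MulAut P) ((b : MulAut P) x) = (x⁻¹ * (b : MulAut P) x) *
        (((b : MulAut P) x)⁻¹ * (a : MulAut P) ((b : MulAut P) x)) by group]
      exact mul_mem (hb x).2 (ha _).2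
  inv_mem' {a} ha x := by
    have h2 := ha ((a : MulAut P)⁻¹ x)
    rw [MulAut.apply_inv_self] at h2
    refine ⟨fun hx => ?_, ?_⟩
    · show (a : MulAut P)⁻¹ x = x
      conv_lhs => rw [← (ha x).1 hx]
      exact MulAut.inv_apply_self _ _ _
    · show ((x⁻¹ * (a : MulAut P)⁻¹ x : P) : Ω) ∈ T
      simpa using T.inv_mem h2.2

variable {P : Subgroup Ω} {hT : F.StronglyClosed T}

theorem mem_Kst_iff {a : F.autGroup P} : a ∈ Kst F T P hT ↔
    (∀ x ∈ P ⊓ T, autFun (a : MulAut P) x = x) ∧ TMod T P (autFun (a : MulAut P)) := by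
  constructor
  · intro h
    refine ⟨fun x hx => ?_, fun x hx => ?_⟩
    · rw [show autFun (a : MulAut P) x = (((a : MulAut P) ⟨x, hx.1⟩ : P) : Ω) from
        autFun_coe _ ⟨x, hx.1⟩, (h ⟨x, hx.1⟩).1 hx.2]
    · rw [show autFun (a : MulAut P) x = (((a : MulAut P) ⟨x, hx⟩ : P) : Ω) from
        autFun_coe _ ⟨x, hx⟩]
      exact (h ⟨x, hx⟩).2
  · intro h x
    refine ⟨fun hx => Subtype.ext ?_, ?_⟩
    · rw [← autFun_coe]; exact h.1 x ⟨x.2, hx⟩
    · show (x : Ω)⁻¹ * (((a : MulAut P) x : P) : Ω) ∈ T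
      rw [← autFun_coe]
      exact h.2 x x.2

theorem Kst_diff {a : F.autGroup P} (ha : a ∈ Kst F T P hT) (x : P) :
    (a : MulAut P) (x⁻¹ * (a : MulAut P) x) = x⁻¹ * (a : MulAut P) x :=
  (ha _).1 (ha x).2

theorem Kst_pow_apply {a : F.autGroup P} (ha : a ∈ Kst F T P hT) (x : P) (i : ℕ) :
    ((a : MulAut P) ^ i) x = x * (x⁻¹ * (a : MulAut P) x) ^ i := by
  induction i with
  | zero => simp
  | succ i ih =>
    rw [pow_succ', MulAut.mul_apply, ih, map_mul, map_pow, Kst_diff ha x, pow_succ',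
      ← mul_assoc x, mul_inv_cancel_left]

theorem Kst_isPGroup (hS : IsPGroup p S) (hP : P ≤ S) : IsPGroup p (Kst F T P hT) := by
  intro k
  haveI := finite_of_le hP
  obtain ⟨m, hm⟩ : ∃ m, ∀ z : P, z ^ p ^ m = 1 := by
    by_cases hp : p = 0
    · refine ⟨1, fun z => ?_⟩
      obtain ⟨j, hj⟩ := (hS.to_le hP) z
      rcases j with _ | j
      · rw [pow_zero, pow_one] at hj; simp [hp]
      · simp [hp] at hj ⊢
    · have hP' := hS.to_le hP
      choose j hj using fun z : P => hP' z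
      haveI := Fintype.ofFinite P
      exact ⟨Finset.univ.sup j, fun z => by
        obtain ⟨d, hd⟩ := pow_dvd_pow p (Finset.le_sup (f := j) (Finset.mem_univ z))
        rw [hd, pow_mul, hj, one_pow]⟩
  refine ⟨m, Subtype.ext (Subtype.ext (MulEquiv.ext fun x => ?_))⟩
  rw [SubmonoidClass.coe_pow, SubmonoidClass.coe_pow, Kst_pow_apply k.2 x, hm, mul_one]
  rfl

theorem Kst_normal (hP : P ≤ S) : (Kst F T P hT).Normal := by
  have hinv : ∀ a : F.autGroup P, ∀ x : P, (x : Ω) ∈ T → ((a : MulAut P) x : Ω) ∈ T :=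
    fun a x hx => by
      rw [← autFun_coe]
      exact StronglyClosed.apply_mem hT (((mem_autGroup hP).1 a.2).res inf_le_left)
        (inf_le_right : P ⊓ T ≤ T) ⟨x.2, hx⟩
  refine ⟨fun k hk a x => ⟨fun hx => ?_, ?_⟩⟩
  · show (a : MulAut P) ((k : MulAut P) ((a : MulAut P)⁻¹ x)) = x
    rw [(hk ((a : MulAut P)⁻¹ x)).1
      (show (((a : MulAut P)⁻¹ x : P) : Ω) ∈ T from hinv a⁻¹ x hx), MulAut.apply_inv_self]
  · show ((x⁻¹ * (a : MulAut P) ((k : MulAut P) ((a : MulAut P)⁻¹ x)) : P) : Ω) ∈ T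
    have h2 := hinv a _ (hk ((a : MulAut P)⁻¹ x)).2
    rwa [map_mul, map_inv, MulAut.apply_inv_self] at h2

/-- The stabilizer of the chain is abelian. -/
theorem Kst_comm (hP : P ≤ S) {a b : F.autGroup P} (ha : a ∈ Kst F T P hT)
    (hb : b ∈ Kst F T P hT) : a * b = b * a := by
  refine Subtype.ext (MulEquiv.ext fun x => ?_)
  show (a : MulAut P) ((b : MulAut P) x) = (b : MulAut P) ((a : MulAut P) x)
  have hzaT : ((x⁻¹ * (a : MulAut P) x : P) : Ω) ∈ T := (ha x).2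
  have hzbT : ((x⁻¹ * (b : MulAut P) x : P) : Ω) ∈ T := (hb x).2
  have e1 : (a : MulAut P) ((b : MulAut P) x) =
      x * ((x⁻¹ * (a : MulAut P) x) * (x⁻¹ * (b : MulAut P) x)) := by
    rw [show (b : MulAut P) x = x * (x⁻¹ * (b : MulAut P) x) by group, map_mul,
      (ha _).1 hzbT]
    group
  have e2 : (b : MulAut P) ((a : MulAut P) x) =
      x * ((x⁻¹ * (b : MulAut P) x) * (x⁻¹ * (a : MulAut P) x)) := by
    rw [show (a : MulAut P) x = x * (x⁻¹ * (a : MulAut P) x) by group, map_mul,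
      (hb _).1 hzaT]
    group
  rw [e1, e2]
  congr 1
  -- both differences centralize `P ⊓ T`
  have hc : ∀ c : F.autGroup P, c ∈ Kst F T P hT → ∀ q : P, (q : Ω) ∈ T →
      Commute (x⁻¹ * (c : MulAut P) x) q := by
    intro c hc q hq
    have hcx : ((x * q * x⁻¹ : P) : Ω) ∈ T :=
      StronglyClosed.conj_mem' hT (hP x.2) hq
    have h1 :=
      (hc (x * q * x⁻¹)).1 hcx
    rw [map_mul, map_mul, map_inv, (hc q).1 hq] at h1
    show x⁻¹ * (c : MulAut P) x * q = q * (x⁻¹ * (c : MulAut P) x)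
    have h2 : (c : MulAut P) x * q = x * q * x⁻¹ * (c : MulAut P) x := by
      conv_rhs => rw [← h1]
      group
    rw [mul_assoc, h2]
    group
  exact (hc a ha _ hzbT)

/-- In a fully automized subgroup the stabilizer of the chain is induced by `S`. -/
theorem Kst_le_autInducedBy [Fact p.Prime] (hS : IsPGroup p S) (hP : F.IsFullyAutomized p P)
    {a : F.autGroup P} (ha : a ∈ Kst F T P hT) : (a : MulAut P) ∈ autInducedBy S P := by
  obtain ⟨hPS, W, hW⟩ := hP
  haveI := finite_of_le hPS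
  haveI := Kst_normal (hT := hT) hPS
  have h1 := (Kst_isPGroup (hT := hT) hS hPS).le_sylow_of_normal W ha
  rw [hW] at h1
  exact h1

end Cfsg.Agent.Fus.ProdSub
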