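import Mathlib
import Cfsg.Agent.Lib.Fus.ProdSub.Chain
import Cfsg.Agent.Lib.Fus.InvMapSystem

/-!
Extension of automorphisms trivial modulo `T` in a normal subsystem along their normalized
automizers.
-/

set_option autoImplicit false
set_option linter.style.haveILetI false
set_option linter.unusedSectionVars false

open scoped Classical

universe u

namespace Cfsg.Agent.Fus.ProdSub

open Subgroup FusionSystem

variable {Ω : Type u} [Group Ω] {S T : Subgroup Ω} {F : FusionSystem S} {E : FusionSystem T}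
  {p : ℕ}

theorem autFun_nmh {P : Subgroup Ω} {g : Ω} (hg : g ∈ Subgroup.normalizer (P : Set Ω)) {x : Ω}
    (hx : x ∈ P) : autFun (P.normalizerMonoidHom ⟨g, hg⟩) x = g * x * g⁻¹ :=
  (autFun_coe _ ⟨x, hx⟩).trans (normalizerMonoidHom_apply ⟨g, hg⟩ ⟨x, hx⟩)

theorem nmh_mem (F : FusionSystem S) {P : Subgroup Ω} (hP : P ≤ S) {g : Ω} (hg : g ∈ S)
    (hn : g ∈ Subgroup.normalizer (P : Set Ω)) :
    P.normalizerMonoidHom ⟨g, hn⟩ ∈ F.autGroup P :=
  autInducedBy_le_autGroup F hP (InvMap.mem_autInducedBy_of_mem hg hn)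

theorem TMod.pow {K W : Subgroup Ω} {α : MulAut W} (h : TMod K W (autFun α)) :
    ∀ i : ℕ, TMod K W (autFun (α ^ i))
  | 0 => fun x hx => by rw [pow_zero, autFun_one hx, inv_mul_cancel]; exact K.one_mem
  | i + 1 => fun x hx => by
    rw [pow_succ', autFun_mul _ _ hx]
    exact tcong_trans (h.pow i x hx) (h _ (autFun_mem _ hx))

/-- The restriction of an automorphism to an invariant subgroup. -/
theorem exists_res_aut [Finite S] {W Z : Subgroup Ω} {α : MulAut W}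
    (h : IsMap F W (autFun α)) (hZ : Z ≤ W) (hinv : ∀ x ∈ Z, autFun α x ∈ Z) :
    ∃ β ∈ F.autGroup Z, (∀ x ∈ Z, autFun β x = autFun α x) ∧ orderOf β ∣ orderOf α := by
  have hm := h.res hZ
  haveI := finite_of_le hm.source_le
  obtain ⟨β, hβ, hβe⟩ :=
    hm.exists_aut (Subgroup.eq_of_le_of_card_ge (fimg_le hinv) hm.card_fimg.ge)
  refine ⟨β, hβ, hβe, orderOf_dvd_of_pow_eq_one (mulAut_ext fun x hx => ?_)⟩
  rw [← autFun_pow_eq hZ (fun y hy => (hβe y hy).symm) _ x hx, pow_orderOf_eq_one,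
    autFun_one (hZ hx), autFun_one hx]

theorem tCen_of_centric [Finite S] (hE : E.IsInvariantIn F) {Q : Subgroup Ω} (hQ : E.IsCentric Q) :
    InvMap.TCen F T Q := by
  refine ⟨hQ.1, fun Q' hQ' => ?_⟩
  obtain ⟨f, hf, rfl⟩ := isConj_iff.1 hQ'
  exact centralizerIn_le_of_centric (InvClass.centric_transport hE hQ hf)

variable [Finite S] [Fact p.Prime]

/-- A coprime automorphism of `Z ≤ N_T(Q)` lies in `E` if its restriction to `Q` does. -/
theorem inE_of_res (hS : IsPGroup p S) (hF : F.IsSaturated p) (hE : E.IsNormalIn F p)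
    {Q Z : Subgroup Ω} (hQ : E.IsCentric Q) (hQn : F.IsFullyNormalized Q) (hQZ : Q ≤ Z)
    (hZT : Z ≤ T) (hZN : Z ≤ Subgroup.normalizer (Q : Set Ω)) {ν : MulAut Z}
    (hν : IsMap F Z (autFun ν)) (ho : (orderOf ν).Coprime p)
    (hres : IsMap E Q (autFun ν)) (hinv : ∀ x ∈ Q, autFun ν x ∈ Q) :
    IsMap E Z (autFun ν) := by
  have hI : E.IsInvariantIn F := hE.1.2.2
  have hT := hI.2.1
  haveI : Finite T := finite_of_le hT.1
  have hQEn := InvExt.fullyNormalized_sub hS hF hT hI.1 hQ.1 hQn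
  have hQEr := receptive_of_fullyNormalized (hS.to_le hT.1) hE.1.1 hQEn
  haveI := finite_of_le hQn.1
  have himg : fimg (autFun ν) Q = Q :=
    Subgroup.eq_of_le_of_card_ge (fimg_le hinv) hres.card_fimg.ge
  obtain ⟨e, he, hee⟩ := receptive_extend hQEr hres himg (N := Z) (fun g hg =>
    ⟨⟨hZT hg, hZN hg⟩, autFun ν g, hZT (autFun_mem ν hg), fun x hx =>
      hν.map_conj hg (hQZ hx)⟩) hQZ
  have hQc := fullyCentralized_of_fullyNormalized hS hF hQn
  obtain ⟨s, hs, hse⟩ := InvMap.exists_conj_of_eqOn hS hF hT (tCen_of_centric hI hQ) hQc hQZ hZT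
    hZN hν (he.mono hI.1) hee
  have hZS : Z ≤ S := hν.source_le
  haveI := finite_of_le hZS
  have hsn : s ∈ Subgroup.normalizer (Z : Set Ω) :=
    InvMap.centralizerIn_le_normalizer hT (tCen_of_centric hI hQ) hQZ hZT hZN hs
  set c := Z.normalizerMonoidHom ⟨s, hsn⟩ with hc
  have hb : ν * c ∈ E.autGroup Z := (mem_autGroup hZT).2 (he.congr fun x hx => by
    rw [autFun_mul _ _ hx, hc, autFun_nmh hsn hx, hse x hx])
  let A : Subgroup (F.autGroup Z) := (E.autGroup Z).subgroupOf (F.autGroup Z)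
  haveI : A.Normal := ⟨fun a ha g => Subgroup.mem_subgroupOf.2
    (autGroup_conj_mem hI hZT g.2 (Subgroup.mem_subgroupOf.1 ha))⟩
  let n' : F.autGroup Z := ⟨ν, (mem_autGroup hZS).2 hν⟩
  let c' : F.autGroup Z := ⟨c, nmh_mem F hZS hs.1 hsn⟩
  have hq : (QuotientGroup.mk n' : F.autGroup Z ⧸ A) * QuotientGroup.mk c' = 1 :=
    (QuotientGroup.eq_one_iff _).2 (show ν * c ∈ E.autGroup Z from hb)
  obtain ⟨k, hk⟩ := (isPGroup_autInducedBy hS Z)
    ⟨c, InvMap.mem_autInducedBy_of_mem hs.1 hsn⟩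
  have hk' : c' ^ p ^ k = 1 :=
    Subtype.ext (congrArg Subtype.val hk : c ^ p ^ k = 1)
  have hn1 : (QuotientGroup.mk (n' ^ p ^ k) : F.autGroup Z ⧸ A) = 1 := by
    rw [QuotientGroup.mk_pow, eq_inv_of_mul_eq_one_left hq, inv_pow, ← QuotientGroup.mk_pow, hk',
      QuotientGroup.mk_one, inv_one]
  have hn2 : ν ^ p ^ k ∈ E.autGroup Z :=
    Subgroup.mem_subgroupOf.1 ((QuotientGroup.eq_one_iff (n' ^ p ^ k)).1 hn1)
  obtain ⟨u, hu⟩ := exists_pow_ppow_eq ho k
  have hn3 : ν ∈ E.autGroup Z := hu ▸ pow_mem hn2 u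
  exact (mem_autGroup hZT).1 hn3

set_option maxHeartbeats 1600000 in
/-- An automorphism in `E` of a trace extends, trivially modulo `T`, to every subgroup whose
induced automorphisms it normalizes. -/
theorem exists_ext_trace (hS : IsPGroup p S) (hF : F.IsSaturated p) (hE : E.IsNormalIn F p)
    {Q Y : Subgroup Ω} (hQn : F.IsFullyNormalized Q) (hQc : E.IsCentric Q) {γ : MulAut Q}
    (hγ : γ ∈ E.autGroup Q) (hγo : (orderOf γ).Coprime p) (hY : Y ≤ normalizerIn S Q)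
    (hnorm : ∀ y ∈ Y, ∃ y' ∈ Y, ∀ q ∈ Q,
      autFun γ (y * q * y⁻¹) = y' * autFun γ q * y'⁻¹) :
    ∃ (N : Subgroup Ω) (g : MulAut N), Q ⊔ centralizerIn S Q ≤ N ∧ Y ≤ N ∧
      N ≤ normalizerIn S Q ∧ g ∈ F.autGroup N ∧ (orderOf g).Coprime p ∧ TMod T N (autFun g) ∧
      ∀ x ∈ Q, autFun g x = autFun γ x := by
  have hI : E.IsInvariantIn F := hE.1.2.2
  have hT := hI.2.1
  have hTS := hT.1
  haveI : Finite T := finite_of_le hTS
  have hQT : Q ≤ T := hQc.1
  have hQS : Q ≤ S := hQn.1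
  set C := centralizerIn S Q with hC
  have hCN : C ≤ Subgroup.normalizer (Q : Set Ω) := fun c hc =>
    (centralizerIn_le_normalizerIn Q hc).2
  have hCT : ∀ c ∈ C, c ∈ T → c ∈ Q := fun c hc hcT =>
    centralizerIn_le_of_centric hQc ⟨hcT, hc.2⟩
  set U := Q ⊔ C with hU
  have hQU : Q ≤ U := le_sup_left
  have hCU : C ≤ U := le_sup_right
  have hUS : U ≤ S := sup_le hQS inf_le_left
  have hUT : U ⊓ T = Q := by
    refine le_antisymm (fun x hx => ?_) (le_inf hQU hQT)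
    obtain ⟨q, hq, c, hc, rfl⟩ := (InvMap.mem_sup_normalized hCN).1 hx.1
    refine Q.mul_mem hq (hCT c hc ?_)
    have h1 := T.mul_mem (T.inv_mem (hQT hq)) hx.2
    rwa [inv_mul_cancel_left] at h1
  have hNQU : normalizerIn S Q ≤ normalizerIn S U := fun g hg => by
    refine ⟨hg.1, ?_⟩
    have hQn' := hg.2
    have hcn : ∀ g ∈ S, g ∈ Subgroup.normalizer (Q : Set Ω) → ∀ c ∈ C, g * c * g⁻¹ ∈ C := by
      intro g hgS hgn c hc
      refine mem_centralizerIn.2 ⟨S.mul_mem (S.mul_mem hgS hc.1) (S.inv_mem hgS), fun q hq => ?_⟩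
      have hq' := (Subgroup.mem_normalizer_iff''.1 hgn q).1 hq
      have h1 := (mem_centralizerIn.1 hc).2 _ hq'
      calc q * (g * c * g⁻¹) = g * (g⁻¹ * q * g * c) * g⁻¹ := by group
        _ = g * (c * (g⁻¹ * q * g)) * g⁻¹ := by rw [h1]
        _ = g * c * g⁻¹ * q := by group
    have key : ∀ g ∈ S, g ∈ Subgroup.normalizer (Q : Set Ω) → ∀ x ∈ U, g * x * g⁻¹ ∈ U := by
      intro g hgS hgn x hx
      obtain ⟨q, hq, c, hc, rfl⟩ := (InvMap.mem_sup_normalized hCN).1 hx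
      rw [show g * (q * c) * g⁻¹ = (g * q * g⁻¹) * (g * c * g⁻¹) by group]
      exact U.mul_mem (hQU ((Subgroup.mem_normalizer_iff.1 hgn q).1 hq))
        (hCU (hcn g hgS hgn c hc))
    exact mem_normalizer_of_forall (key g hg.1 hQn') fun x hx => by
      simpa using key g⁻¹ (S.inv_mem hg.1) (Subgroup.inv_mem _ hQn') x hx
  have hUn : F.IsFullyNormalized U := by
    refine ⟨hUS, fun R hR => ?_⟩
    obtain ⟨f, hf, rfl⟩ := isConj_iff.1 hR
    have h1 : fimg f U ⊓ T = fimg f Q := by rw [← InvClass.fimg_inf hT hf, hUT]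
    have h2 : normalizerIn S (fimg f U) ≤ normalizerIn S (fimg f Q) := by
      rw [← h1]; exact normalizerIn_le_inf hT _
    haveI : Finite ↥(normalizerIn S (fimg f Q)) := finite_of_le (S := S) inf_le_left
    haveI : Finite ↥(normalizerIn S U) := finite_of_le (S := S) inf_le_left
    exact (Subgroup.card_le_of_le h2).trans
      ((hQn.2 _ (hf.res hQU).isConj).trans (Subgroup.card_le_of_le hNQU))
  haveI : Finite U := finite_of_le hUS
  have hUa := fullyAutomized_of_fullyNormalized hS hF hUn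
  have hUr := receptive_of_fullyNormalized hS hF hUn
  -- the trace of `m` and its lift
  obtain ⟨g0, hg0, hg0e, hg0c⟩ := InvExt.exists_triv hS hF hE hQc hQn hγ
  obtain ⟨ξ0, hξ0, hξ0e⟩ := hg0.exists_aut (InvExt.fimg_sup_centralizer hQS hg0 hg0e)
  have hξ0T : TMod T U (autFun ξ0) := fun x hx => by
    rw [hξ0e x hx]
    obtain ⟨q, hq, c, hc, rfl⟩ := (InvMap.mem_sup_normalized hCN).1 hx
    rw [hg0.map_mul (hQU hq) (hCU hc), hg0e q hq,
      show (q * c)⁻¹ * (autFun γ q * g0 c) =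
        c⁻¹ * (q⁻¹ * autFun γ q) * c * (c⁻¹ * g0 c) by group]
    exact T.mul_mem (conj_inv_mem hT hc.1
      (T.mul_mem (T.inv_mem (hQT hq)) (hQT (autFun_mem γ hq)))) (hg0c c hc)
  obtain ⟨k, n, hn, hξn, hγk⟩ := InvExt.exists_coprime_power ξ0 hγo (pow_orderOf_eq_one γ)
  set ξ := ξ0 ^ k with hξdef
  have hξco : (orderOf ξ).Coprime p :=
    hn.coprime_dvd_left (orderOf_dvd_of_pow_eq_one hξn)
  have hξF : ξ ∈ F.autGroup U := pow_mem hξ0 k
  have hξm : IsMap F U (autFun ξ) := (mem_autGroup hUS).1 hξF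
  have hξT : TMod T U (autFun ξ) := hξ0T.pow k
  have hξQ : ∀ x ∈ Q, autFun ξ x = autFun γ x := fun x hx => by
    rw [hξdef, autFun_pow_eq hQU (fun y hy => (hξ0e y (hQU hy)).trans (hg0e y hy)) k x hx,
      hγk]
  have hξinv : ∀ x ∈ U, autFun ξ (autFun ξ⁻¹ x) = x := fun x hx => by
    rw [← autFun_mul _ _ hx, mul_inv_cancel, autFun_one hx]
  have hξT' : TMod T U (autFun ξ⁻¹) := fun x hx => by
    have h1 := hξT _ (autFun_mem ξ⁻¹ hx)
    rw [hξinv x hx] at h1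
    simpa using T.inv_mem h1
  -- normalizers
  have hYS : Y ≤ S := hY.trans inf_le_left
  have hYQ : Y ≤ normalizerIn S Q := hY
  have hYU : Y ≤ Subgroup.normalizer (U : Set Ω) := fun y hy => (hNQU (hYQ hy)).2
  have hUNT : U ≤ Subgroup.normalizer (T : Set Ω) := le_normalizer_T hT hUS
  have hQEn := InvExt.fullyNormalized_sub hS hF hT hI.1 hQT hQn
  -- transfer of the conjugations
  have hkey : ∀ y ∈ Y, ∃ y' ∈ Y, ∃ u ∈ U,
      (∀ x ∈ U, autFun ξ (y * x * y⁻¹) = (y' * u) * autFun ξ x * (y' * u)⁻¹) ∧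
      y⁻¹ * y' ∈ T ⊔ U := by
    intro y hy
    obtain ⟨y', hy', hyy⟩ := hnorm y hy
    have hyn := (hYQ hy).2
    have hyn' := (hYQ hy').2
    let cy : MulAut Q := Q.normalizerMonoidHom ⟨y, hyn⟩
    have hcyF : cy ∈ F.autGroup Q := nmh_mem F hQS (hYS hy) hyn
    have hzn : y'⁻¹ * y ∈ Subgroup.normalizer (Q : Set Ω) :=
      Subgroup.mul_mem _ (Subgroup.inv_mem _ hyn') hyn
    have hzS : y'⁻¹ * y ∈ S := S.mul_mem (S.inv_mem (hYS hy')) (hYS hy)
    have hzE : Q.normalizerMonoidHom ⟨_, hzn⟩ ∈ E.autGroup Q := by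
      have h2 : γ * (cy⁻¹ * γ⁻¹ * (cy⁻¹)⁻¹) ∈ E.autGroup Q :=
        mul_mem hγ (autGroup_conj_mem hI hQT (inv_mem hcyF) (inv_mem hγ))
      have h3 : γ * cy = Q.normalizerMonoidHom ⟨y', hyn'⟩ * γ := mulAut_ext fun x hx => by
        rw [autFun_mul _ _ hx, autFun_mul _ _ hx, autFun_nmh hyn' (autFun_mem γ hx),
          autFun_nmh hyn hx, hyy x hx]
      rw [show (⟨_, hzn⟩ : Subgroup.normalizer (Q : Set Ω)) = ⟨y', hyn'⟩⁻¹ * ⟨y, hyn⟩ from rfl,
        map_mul, map_inv, show Q.normalizerMonoidHom ⟨y', hyn'⟩ = γ * cy * γ⁻¹ by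
          rw [h3, mul_inv_cancel_right]]
      rwa [show (γ * cy * γ⁻¹)⁻¹ * cy = γ * (cy⁻¹ * γ⁻¹ * (cy⁻¹)⁻¹) by group]
    obtain ⟨t, ht, hte⟩ := mem_autInducedBy.1 (InvExt.inducedBy_of_mem hS hTS hE.1.1 hQEn hzE
      (InvMap.mem_autInducedBy_of_mem hzS hzn))
    set c := y'⁻¹ * y * t⁻¹ with hc
    have hcS : c ∈ S := S.mul_mem hzS (S.inv_mem (hTS ht))
    have htn : t ∈ Subgroup.normalizer (Q : Set Ω) := mem_normalizer_of_conj_aut hte
    have hcC : c ∈ C := mem_centralizerIn.2 ⟨hcS, fun q hq => by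
      have hq' := (Subgroup.mem_normalizer_iff''.1 htn q).1 hq
      have h1 := hte ⟨_, hq'⟩
      rw [normalizerMonoidHom_apply] at h1
      have h2 : c * q * c⁻¹ = q := by
        calc c * q * c⁻¹ = (y'⁻¹ * y) * (t⁻¹ * q * t) * (y'⁻¹ * y)⁻¹ := by rw [hc]; group
          _ = t * (t⁻¹ * q * t) * t⁻¹ := h1
          _ = q := by group
      conv_lhs => rw [← h2]
      group⟩
    have hwn : y' * c ∈ Subgroup.normalizer (U : Set Ω) :=
      Subgroup.mul_mem _ (hYU hy') (Subgroup.le_normalizer (hCU hcC))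
    have hwS : y' * c ∈ S := S.mul_mem (hYS hy') hcS
    let D : MulAut U := (U.normalizerMonoidHom ⟨_, hwn⟩)⁻¹ * ξ *
      U.normalizerMonoidHom ⟨y, hYU hy⟩ * ξ⁻¹
    have hDF : D ∈ F.autGroup U := mul_mem (mul_mem (mul_mem (inv_mem (nmh_mem F hUS hwS hwn)) hξF)
      (nmh_mem F hUS (hYS hy) (hYU hy))) (inv_mem hξF)
    have hDv : ∀ x ∈ U, autFun D x =
        (y' * c)⁻¹ * autFun ξ (y * autFun ξ⁻¹ x * y⁻¹) * (y' * c) := fun x hx => by
      simp only [D]
      rw [autFun_mul _ _ hx, autFun_mul _ _ (autFun_mem _ hx),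
        autFun_nmh (hYU hy) (autFun_mem _ hx),
        autFun_mul _ _ ((Subgroup.mem_normalizer_iff.1 (hYU hy) _).1 (autFun_mem _ hx)),
        ← map_inv, show ((⟨y' * c, hwn⟩ : Subgroup.normalizer (U : Set Ω))⁻¹) =
          ⟨(y' * c)⁻¹, Subgroup.inv_mem _ hwn⟩ from rfl,
        autFun_nmh _ (autFun_mem _ ((Subgroup.mem_normalizer_iff.1 (hYU hy) _).1
          (autFun_mem _ hx))), inv_inv]
    have hDK : (⟨D, hDF⟩ : F.autGroup U) ∈ Kst F T U hT := by
      rw [mem_Kst_iff, hUT]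
      refine ⟨fun q hq => ?_, fun x hx => ?_⟩
      · show autFun D q = q
        have hqi : autFun ξ⁻¹ q ∈ Q := by
          exact hUT.le ⟨autFun_mem _ (hQU hq), StronglyClosed.apply_mem hT
            (((mem_autGroup hUS).1 (inv_mem hξF)).res hQU) hQT hq⟩
        have hq2 := (Subgroup.mem_normalizer_iff.1 hyn _).1 hqi
        rw [hDv q (hQU hq), hξQ _ hq2, hyy _ hqi, ← hξQ _ hqi, hξinv q (hQU hq)]
        have h2 := (mem_centralizerIn.1 hcC).2 q hq
        calc (y' * c)⁻¹ * (y' * q * y'⁻¹) * (y' * c) = c⁻¹ * (q * c) := by group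
          _ = q := by rw [h2]; group
      · show x⁻¹ * autFun D x ∈ T
        rw [hDv x hx]
        set a := autFun ξ⁻¹ x
        have ha : a ∈ U := autFun_mem _ hx
        have hb : y * a * y⁻¹ ∈ U := (Subgroup.mem_normalizer_iff.1 (hYU hy) a).1 ha
        have h1 : x⁻¹ * a ∈ T := hξT' x hx
        have h2 := tcong_conj (F := F) hT (hYS hy) h1
        have h3 := tcong_trans h2 (hξT _ hb)
        have h4 := tcong_conj (F := F) hT (S.inv_mem hwS) h3
        rw [inv_inv] at h4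
        refine tcong_trans ?_ h4
        rw [show (y' * c)⁻¹ * (y * x * y⁻¹) * (y' * c) = t * x * t⁻¹ by rw [hc]; group,
          show x⁻¹ * (t * x * t⁻¹) = x⁻¹ * t * x * t⁻¹ by group]
        exact T.mul_mem (conj_inv_mem hT (hUS hx) ht) (T.inv_mem ht)
    obtain ⟨k0, hk0, hk0e⟩ := mem_autInducedBy.1 (Kst_le_autInducedBy hS hUa hDK)
    have hk0C : k0 ∈ C := mem_centralizerIn.2 ⟨hk0, fun q hq => by
      have h1 := hk0e ⟨q, hQU hq⟩
      have h2 : autFun D q = q :=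
        (mem_Kst_iff.1 hDK).1 q (hUT.ge hq)
      rw [← autFun_coe D ⟨q, hQU hq⟩] at h1
      change autFun D q = k0 * q * k0⁻¹ at h1
      rw [h2] at h1
      conv_lhs => rw [h1]
      group⟩
    refine ⟨y', hy', c * k0, hCU (C.mul_mem hcC hk0C), fun x hx => ?_, ?_⟩
    · have hξx : autFun ξ x ∈ U := autFun_mem ξ hx
      have h1 := hk0e ⟨_, hξx⟩
      rw [← autFun_coe D ⟨_, hξx⟩] at h1
      change autFun D (autFun ξ x) = k0 * autFun ξ x * k0⁻¹ at h1
      rw [hDv _ hξx, autFun_inv_apply ξ hx] at h1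
      calc autFun ξ (y * x * y⁻¹)
          = (y' * c) * ((y' * c)⁻¹ * autFun ξ (y * x * y⁻¹) * (y' * c)) * (y' * c)⁻¹ := by group
        _ = (y' * c) * (k0 * autFun ξ x * k0⁻¹) * (y' * c)⁻¹ := by rw [h1]
        _ = _ := by group
    · rw [show y⁻¹ * y' = t⁻¹ * c⁻¹ by rw [hc]; group]
      exact Subgroup.mul_mem_sup (T.inv_mem ht) (U.inv_mem (hCU hcC))
  -- extension
  set N := U ⊔ Y with hN
  have hUN : U ≤ N := le_sup_left
  have hYN : Y ≤ N := le_sup_right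
  have hNS : N ≤ S := sup_le hUS hYS
  haveI : Finite N := finite_of_le hNS
  obtain ⟨G, hG, hGe⟩ := receptive_extend hUr hξm (fimg_autFun ξ) (N := N) (fun g hg => by
    obtain ⟨v, hv, y, hy, rfl⟩ := (InvMap.mem_sup_normalized hYU).1 hg
    obtain ⟨y', hy', u, hu, hye, -⟩ := hkey y hy
    refine ⟨⟨S.mul_mem (hUS hv) (hYS hy),
      Subgroup.mul_mem _ (Subgroup.le_normalizer hv) (hYU hy)⟩, autFun ξ v * (y' * u),
      S.mul_mem (hUS (autFun_mem ξ hv)) (S.mul_mem (hYS hy') (hUS hu)), fun x hx => ?_⟩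
    rw [show v * y * x * (v * y)⁻¹ = v * (y * x * y⁻¹) * v⁻¹ by group,
      hξm.map_conj hv ((Subgroup.mem_normalizer_iff.1 (hYU hy) x).1 hx), hye x hx]
    group) hUN
  have hGy : ∀ y ∈ Y, ∃ y' ∈ Y, ∃ u ∈ U, G y = y' * u ∧ y⁻¹ * y' ∈ T ⊔ U := by
    intro y hy
    obtain ⟨y', hy', u, hu, hye, hyT⟩ := hkey y hy
    have hGyS : G y ∈ S := hG.apply_mem (hYN hy)
    have hc : (y' * u)⁻¹ * G y ∈ C := mem_centralizerIn.2
      ⟨S.mul_mem (S.inv_mem (S.mul_mem (hYS hy') (hUS hu))) hGyS, fun q hq => by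
        have hx : autFun ξ⁻¹ q ∈ U := autFun_mem _ (hQU hq)
        have h1 := hG.map_conj (hYN hy) (hUN hx)
        rw [hGe _ ((Subgroup.mem_normalizer_iff.1 (hYU hy) _).1 hx), hye _ hx, hGe _ hx,
          hξinv q (hQU hq)] at h1
        calc q * ((y' * u)⁻¹ * G y)
            = (y' * u)⁻¹ * ((y' * u) * q * (y' * u)⁻¹) * G y := by group
          _ = (y' * u)⁻¹ * (G y * q * (G y)⁻¹) * G y := by rw [h1]
          _ = (y' * u)⁻¹ * G y * q := by group⟩
    exact ⟨y', hy', u * ((y' * u)⁻¹ * G y), U.mul_mem hu (hCU hc), by group, hyT⟩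
  have hGN : fimg G N = N := by
    refine Subgroup.eq_of_le_of_card_ge (fimg_le fun g hg => ?_) hG.card_fimg.ge
    obtain ⟨v, hv, y, hy, rfl⟩ := (InvMap.mem_sup_normalized hYU).1 hg
    obtain ⟨y', hy', u, hu, he, -⟩ := hGy y hy
    rw [hG.map_mul (hUN hv) (hYN hy), hGe v hv, he]
    exact N.mul_mem (hUN (autFun_mem ξ hv)) (N.mul_mem (hYN hy') (hUN hu))
  obtain ⟨G0, hG0, hG0e⟩ := hG.exists_aut hGN
  have hKn : Y ≤ Subgroup.normalizer ((T ⊔ U : Subgroup Ω) : Set Ω) := fun y hy => by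
    have h1 : y ∈ Subgroup.normalizer (T : Set Ω) := le_normalizer_T hT hYS hy
    have key : ∀ g, g ∈ Subgroup.normalizer (T : Set Ω) →
        g ∈ Subgroup.normalizer (U : Set Ω) → ∀ x ∈ T ⊔ U, g * x * g⁻¹ ∈ T ⊔ U := by
      intro g hgT hgU x hx
      obtain ⟨a, ha, b, hb, rfl⟩ := (InvMap.mem_sup_normalized hUNT).1 hx
      rw [show g * (a * b) * g⁻¹ = (g * a * g⁻¹) * (g * b * g⁻¹) by group]
      exact Subgroup.mul_mem_sup ((Subgroup.mem_normalizer_iff.1 hgT a).1 ha)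
        ((Subgroup.mem_normalizer_iff.1 hgU b).1 hb)
    exact mem_normalizer_of_forall (key y h1 (hYU hy)) fun x hx => by
      simpa using key y⁻¹ (Subgroup.inv_mem _ h1) (Subgroup.inv_mem _ (hYU hy)) x hx
  have hG0T : TMod (T ⊔ U) N (autFun G0) := fun g hg => by
    rw [hG0e g hg]
    obtain ⟨v, hv, y, hy, rfl⟩ := (InvMap.mem_sup_normalized hYU).1 hg
    obtain ⟨y', hy', u, hu, he, hyT⟩ := hGy y hy
    rw [hG.map_mul (hUN hv) (hYN hy), hGe v hv, he,
      show (v * y)⁻¹ * (autFun ξ v * (y' * u)) =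
        y⁻¹ * (v⁻¹ * autFun ξ v) * y * ((y⁻¹ * y') * u) by group]
    exact Subgroup.mul_mem _ (Subgroup.mem_sup_left (conj_inv_mem hT (hYS hy) (hξT v hv)))
      (Subgroup.mul_mem _ hyT (Subgroup.mem_sup_right hu))
  obtain ⟨k', n', hn', hG0n, hξk⟩ := InvExt.exists_coprime_power G0 hξco (pow_orderOf_eq_one ξ)
  set g3 := G0 ^ k' with hg3def
  have hg3co : (orderOf g3).Coprime p :=
    hn'.coprime_dvd_left (orderOf_dvd_of_pow_eq_one hG0n)
  have hg3F : g3 ∈ F.autGroup N := pow_mem hG0 k'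
  have hg3m : IsMap F N (autFun g3) := (mem_autGroup hNS).1 hg3F
  have hg3U : ∀ x ∈ U, autFun g3 x = autFun ξ x := fun x hx => by
    rw [hg3def, autFun_pow_eq hUN (fun y hy => (hG0e y (hUN hy)).trans (hGe y hy)) k' x hx, hξk]
  have hg3T : TMod T N (autFun g3) := by
    refine coprime_mod (hS.to_le hNS) hg3co (hG0T.pow k') (fun q hq hqK => ?_)
      fun t ht _ => Subgroup.mem_sup_left ht
    obtain ⟨t, ht, u, hu, rfl⟩ := (InvMap.mem_sup_normalized hUNT).1 hqK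
    have htN : t ∈ N := by
      have := N.mul_mem hq (N.inv_mem (hUN hu))
      rwa [mul_inv_cancel_right] at this
    have h1 : autFun g3 t ∈ T :=
      StronglyClosed.apply_mem hT (hg3m.res inf_le_left) (inf_le_right : N ⊓ T ≤ T) ⟨htN, ht⟩
    rw [hg3m.map_mul htN (hUN hu), hg3U u hu,
      show (t * u)⁻¹ * (autFun g3 t * autFun ξ u) =
        u⁻¹ * (t⁻¹ * autFun g3 t) * u * (u⁻¹ * autFun ξ u) by group]
    exact T.mul_mem (conj_inv_mem hT (hUS hu) (T.mul_mem (T.inv_mem ht) h1)) (hξT u hu)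
  exact ⟨N, g3, hUN, hYN,
    sup_le (fun x hx => ⟨hUS hx, sup_le Subgroup.le_normalizer hCN hx⟩) hY,
    hg3F, hg3co, hg3T, fun x hx => by rw [hg3U x (hQU hx), hξQ x hx]⟩

theorem autFun_conj_eq {P : Subgroup Ω} (m : MulAut P) {x y : Ω} (hx : x ∈ P) (hy : y ∈ P) :
    autFun m (x * y * x⁻¹) = autFun m x * autFun m y * (autFun m x)⁻¹ := by
  have h : (⟨x * y * x⁻¹, P.mul_mem (P.mul_mem hx hy) (P.inv_mem hx)⟩ : P) =
      ⟨x, hx⟩ * ⟨y, hy⟩ * ⟨x, hx⟩⁻¹ := rfl
  rw [show autFun m (x * y * x⁻¹) = _ from autFun_coe m ⟨_, P.mul_mem (P.mul_mem hx hy) (P.inv_mem hx)⟩,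
    h, map_mul, map_mul, map_inv, show autFun m x = _ from autFun_coe m ⟨x, hx⟩,
    show autFun m y = _ from autFun_coe m ⟨y, hy⟩]
  rfl

/-- Two lifts trivial modulo `T` agreeing on a centric trace differ inside it. -/
theorem diff_mem_trace (hI : E.IsInvariantIn F) {W N : Subgroup Ω} {m : MulAut W}
    (hQc : E.IsCentric (W ⊓ T)) (hmT : TMod T W (autFun m)) {g : Ω → Ω} (hg : IsMap F N g)
    (hgT : TMod T N g) (hWN : W ≤ N) (he : ∀ x ∈ W ⊓ T, g x = autFun m x) :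
    ∀ x ∈ W, (autFun m x)⁻¹ * g x ∈ W ⊓ T := fun x hx => by
  have hT := hI.2.1
  have hWS : W ≤ S := hWN.trans hg.source_le
  haveI := finite_of_le hWS
  have hmx : autFun m x ∈ W := autFun_mem m hx
  have h1 : (autFun m x)⁻¹ * g x ∈ T := by
    have := T.mul_mem (T.inv_mem (hmT x hx)) (hgT x (hWN hx))
    rwa [show (x⁻¹ * autFun m x)⁻¹ * (x⁻¹ * g x) = (autFun m x)⁻¹ * g x by group] at this
  refine centralizerIn_le_of_centric hQc (mem_centralizerIn.2 ⟨h1, fun q hq => ?_⟩)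
  have himg : fimg g (W ⊓ T) = W ⊓ T := by
    haveI : Finite ↥(W ⊓ T) := finite_of_le (S := W) inf_le_left
    refine Subgroup.eq_of_le_of_card_ge (fimg_le fun z hz => ?_)
      (hg.res (inf_le_left.trans hWN)).card_fimg.ge
    exact ⟨he z hz ▸ autFun_mem m hz.1,
      StronglyClosed.apply_mem hT (hg.res (inf_le_left.trans hWN)) inf_le_right hz⟩
  obtain ⟨q', hq', rfl⟩ := (hg.res (inf_le_left.trans hWN)).mem_fimg_iff.1 (himg.ge hq)
  have hqx : x * q' * x⁻¹ ∈ W ⊓ T :=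
    (Subgroup.mem_normalizer_iff.1 ((le_normalizerIn_inf hT hWS) hx).2 q').1 hq'
  have e2 := hg.map_conj (hWN hx) (hWN hq'.1)
  rw [he _ hqx, he q' hq', autFun_conj_eq m hx hq'.1] at e2
  rw [he q' hq']
  calc autFun m q' * ((autFun m x)⁻¹ * g x)
      = (autFun m x)⁻¹ * (autFun m x * autFun m q' * (autFun m x)⁻¹) * g x := by group
    _ = (autFun m x)⁻¹ * (g x * autFun m q' * (g x)⁻¹) * g x := by rw [e2]
    _ = (autFun m x)⁻¹ * g x * autFun m q' := by group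

/-- A coprime automorphism of the trace in `E` commuting with `W` as `α` does lifts to `W`. -/
theorem exists_lift_trace (hS : IsPGroup p S) (hF : F.IsSaturated p) (hE : E.IsNormalIn F p)
    {W : Subgroup Ω} (hW : W ≤ S) (hQn : F.IsFullyNormalized (W ⊓ T))
    (hQc : E.IsCentric (W ⊓ T)) {α : MulAut W} (hαT : TMod T W (autFun α))
    (ho : (orderOf α).Coprime p) (hαE : IsMap E (W ⊓ T) (autFun α)) :
    ∃ β ∈ F.autGroup W, TMod T W (autFun β) ∧ ∀ x ∈ W ⊓ T, autFun β x = autFun α x := by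
  have hI : E.IsInvariantIn F := hE.1.2.2
  have hT := hI.2.1
  obtain ⟨γ, hγ, hγe⟩ := exists_trace hI hαE
  have hγm : γ ^ orderOf α = 1 := mulAut_ext fun x hx => by
    rw [← autFun_pow_eq inf_le_left (fun y hy => (hγe y hy).symm) _ x hx, pow_orderOf_eq_one,
      autFun_one hx.1, autFun_one hx]
  obtain ⟨N, g, -, hWN, hNQ, hg, -, hgT, hge⟩ := exists_ext_trace hS hF hE hQn hQc hγ
    (ho.coprime_dvd_left (orderOf_dvd_of_pow_eq_one hγm)) (le_normalizerIn_inf hT hW)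
    fun y hy => ⟨autFun α y, autFun_mem α hy, fun q hq => by
      rw [hγe _ ((Subgroup.mem_normalizer_iff.1 ((le_normalizerIn_inf hT hW) hy).2 q).1 hq),
        hγe q hq, autFun_conj_eq α hy hq.1]⟩
  have hNS : N ≤ S := hNQ.trans inf_le_left
  have hgm : IsMap F N (autFun g) := (mem_autGroup hNS).1 hg
  have he : ∀ x ∈ W ⊓ T, autFun g x = autFun α x := fun x hx => by rw [hge x hx, hγe x hx]
  have hgW : ∀ x ∈ W, autFun g x ∈ W := fun x hx => by
    have := W.mul_mem (autFun_mem α hx) (diff_mem_trace hI hQc hαT hgm hgT hWN he x hx).1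
    rwa [mul_inv_cancel_left] at this
  obtain ⟨β, hβ, hβe, -⟩ := exists_res_aut hgm hWN hgW
  exact ⟨β, hβ, fun x hx => by rw [hβe x hx]; exact hgT x (hWN hx),
    fun x hx => by rw [hβe x hx.1, he x hx]⟩

set_option maxHeartbeats 1600000 in
/-- A good automorphism extends to every subgroup whose automizer it normalizes. -/
theorem exists_ext_gd (hS : IsPGroup p S) (hF : F.IsSaturated p) (hE : E.IsNormalIn F p)
    {P Y : Subgroup Ω} (hP : F.IsFullyAutomized p P) (hQn : F.IsFullyNormalized (P ⊓ T))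
    (hQc : E.IsCentric (P ⊓ T)) {m : MulAut P} (hm : Gd F E p m) (hPY : P ≤ Y)
    (hY : Y ≤ normalizerIn S P)
    (hnorm : ∀ y ∈ Y, ∃ y' ∈ Y, ∀ x ∈ P,
      autFun m (y * x * y⁻¹) = y' * autFun m x * y'⁻¹) :
    ∃ N, Y ≤ N ∧ ∃ g : MulAut N, Gd F E p g ∧ ∀ x ∈ P, autFun g x = autFun m x := by
  have hI : E.IsInvariantIn F := hE.1.2.2
  have hT := hI.2.1
  have hPS := hP.1
  haveI : Finite P := finite_of_le hPS
  set Q := P ⊓ T with hQ
  have hQT : Q ≤ T := inf_le_right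
  have hQP : Q ≤ P := inf_le_left
  set C := centralizerIn S Q with hC
  have hCN : C ≤ Subgroup.normalizer (Q : Set Ω) := fun c hc =>
    (centralizerIn_le_normalizerIn Q hc).2
  have hYQ : Y ≤ normalizerIn S Q := hY.trans (normalizerIn_le_inf hT P)
  obtain ⟨γ, hγ, hγe⟩ := exists_trace hI hm.inE
  have hγm : γ ^ orderOf m = 1 := mulAut_ext fun x hx => by
    rw [← autFun_pow_eq hQP (fun y hy => (hγe y hy).symm) _ x hx, pow_orderOf_eq_one,
      autFun_one (hQP hx), autFun_one hx]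
  obtain ⟨N, g3, hUN, hYN, hNQ, hg3F, hg3co, hg3T, hg3γ⟩ := exists_ext_trace hS hF hE hQn hQc hγ
    (hm.coprime.coprime_dvd_left (orderOf_dvd_of_pow_eq_one hγm)) hYQ fun y hy => by
      obtain ⟨y', hy', hyy⟩ := hnorm y hy
      exact ⟨y', hy', fun q hq => by
        rw [hγe _ ((Subgroup.mem_normalizer_iff.1 (hYQ hy).2 q).1 hq), hγe q hq, hyy q (hQP hq)]⟩
  have hNS : N ≤ S := hNQ.trans inf_le_left
  haveI : Finite N := finite_of_le hNS
  have hg3m : IsMap F N (autFun g3) := (mem_autGroup hNS).1 hg3F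
  have hPN : P ≤ N := hPY.trans hYN
  have hg3Q : ∀ x ∈ Q, autFun g3 x = autFun m x := fun x hx => by
    rw [hg3γ x hx, hγe x hx]
  have hdiff : ∀ x ∈ P, (autFun m x)⁻¹ * autFun g3 x ∈ Q :=
    diff_mem_trace hI hQc hm.tmod hg3m hg3T hPN hg3Q
  have hg3P : ∀ x ∈ P, autFun g3 x ∈ P := fun x hx => by
    have := P.mul_mem (autFun_mem m hx) (hQP (hdiff x hx))
    rwa [mul_inv_cancel_left] at this
  obtain ⟨gP, hgP, hgPe, hgPo⟩ := exists_res_aut hg3m hPN hg3P
  let m' : F.autGroup P := ⟨m, (mem_autGroup hPS).2 hm.isMap⟩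
  let gP' : F.autGroup P := ⟨gP, hgP⟩
  have hδ : m'⁻¹ * gP' ∈ Kst F T P hT := by
    rw [mem_Kst_iff]
    refine ⟨fun x hx => ?_, fun x hx => ?_⟩
    · show autFun (m⁻¹ * gP) x = x
      rw [autFun_mul _ _ hx.1, hgPe x hx.1, hg3Q x hx, autFun_inv_apply m hx.1]
    · show x⁻¹ * autFun (m⁻¹ * gP) x ∈ T
      rw [autFun_mul _ _ hx, hgPe x hx]
      have hy := hg3P x hx
      set z := autFun m⁻¹ (autFun g3 x)
      have hz : autFun m z = autFun g3 x := by
        rw [← autFun_mul _ _ hy, mul_inv_cancel, autFun_one hy]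
      have h1 := hm.tmod z (autFun_mem _ hy)
      rw [hz] at h1
      have h2 := tcong_trans (hg3T x (hPN hx)) (by simpa using T.inv_mem h1)
      exact h2
  haveI := Kst_normal (hT := hT) hPS
  have hm'o : orderOf m' = orderOf m := (Subgroup.orderOf_coe m').symm
  have hgP'o : orderOf gP' = orderOf gP := (Subgroup.orderOf_coe gP').symm
  obtain ⟨κ, hκ, hκe⟩ := exists_conj_of_coprime (Kst F T P hT)
    (fun a ha b hb => Kst_comm hPS ha hb) (Kst_isPGroup hS hPS) hδ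
    (fun a ha => by
      have := Subgroup.Normal.conj_mem inferInstance a ha m'⁻¹
      rwa [inv_inv] at this)
    (hm'o ▸ hm.coprime)
    (by rw [mul_inv_cancel_left, hgP'o]; exact hg3co.coprime_dvd_left hgPo)
  rw [mul_inv_cancel_left] at hκe
  obtain ⟨s, hs, hse⟩ := mem_autInducedBy.1 (Kst_le_autInducedBy hS hP hκ)
  have hsP : s ∈ Subgroup.normalizer (P : Set Ω) := mem_normalizer_of_conj_aut hse
  have hκv : ∀ x ∈ P, autFun (κ : MulAut P) x = s * x * s⁻¹ := fun x hx =>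
    (autFun_coe _ ⟨x, hx⟩).trans (hse ⟨x, hx⟩)
  have hsC : s ∈ C := mem_centralizerIn.2 ⟨hs, fun q hq => by
    have h1 := (mem_Kst_iff.1 hκ).1 q hq
    rw [hκv q (hQP hq)] at h1
    conv_lhs => rw [← h1]
    group⟩
  have hsN : s ∈ N := hUN (Subgroup.mem_sup_right hsC)
  have hsNn : s ∈ Subgroup.normalizer (N : Set Ω) := Subgroup.le_normalizer hsN
  set cs := N.normalizerMonoidHom ⟨s, hsNn⟩ with hcs
  set g : MulAut N := cs⁻¹ * g3 * cs with hgdef
  have hgv : ∀ x ∈ N, autFun g x = s⁻¹ * autFun g3 (s * x * s⁻¹) * s := fun x hx => by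
    rw [hgdef, autFun_mul _ _ hx, hcs, autFun_nmh hsNn hx,
      autFun_mul _ _ ((Subgroup.mem_normalizer_iff.1 hsNn x).1 hx), ← map_inv,
      show ((⟨s, hsNn⟩ : Subgroup.normalizer (N : Set Ω))⁻¹) =
        ⟨s⁻¹, Subgroup.inv_mem _ hsNn⟩ from rfl,
      autFun_nmh _ (autFun_mem _ ((Subgroup.mem_normalizer_iff.1 hsNn x).1 hx)), inv_inv]
  have hgF : g ∈ F.autGroup N :=
    mul_mem (mul_mem (inv_mem (nmh_mem F hNS hs hsNn)) hg3F) (nmh_mem F hNS hs hsNn)
  have hgm : IsMap F N (autFun g) := (mem_autGroup hNS).1 hgF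
  have hgo : (orderOf g).Coprime p := by
    rw [hgdef, show cs⁻¹ * g3 * cs = MulAut.conj cs⁻¹ g3 by simp, MulEquiv.orderOf_eq]
    exact hg3co
  have hgT : TMod T N (autFun g) := fun x hx => by
    rw [hgv x hx]
    have h1 := tcong_conj (F := F) hT (S.inv_mem hs)
      (hg3T _ ((Subgroup.mem_normalizer_iff.1 hsNn x).1 hx))
    rw [inv_inv] at h1
    rwa [show s⁻¹ * (s * x * s⁻¹) * s = x by group] at h1
  have hgPm : ∀ x ∈ P, autFun g x = autFun m x := fun x hx => by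
    have hx' : s * x * s⁻¹ ∈ P := (Subgroup.mem_normalizer_iff.1 hsP x).1 hx
    rw [hgv x (hPN hx), ← hgPe _ hx', ← hκv x hx]
    have h1 : gP = (κ : MulAut P) * m * (κ : MulAut P)⁻¹ := (congrArg Subtype.val hκe).symm
    rw [← autFun_mul _ _ hx, h1, inv_mul_cancel_right, autFun_mul _ _ hx,
      hκv _ (autFun_mem m hx)]
    group
  refine ⟨N, hYN, g, ⟨hgm, hgo, hgT, ?_⟩, hgPm⟩
  have hZinv : ∀ x ∈ N ⊓ T, autFun g x ∈ N ⊓ T := fun x hx =>
    ⟨autFun_mem g hx.1, StronglyClosed.apply_mem hT (hgm.res inf_le_left) inf_le_right hx⟩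
  obtain ⟨ν, hν, hνe, hνo⟩ := exists_res_aut hgm inf_le_left hZinv
  have hQZ : Q ≤ N ⊓ T := le_inf (hQP.trans hPN) hQT
  have hνQ : ∀ x ∈ Q, autFun ν x = autFun m x := fun x hx =>
    (hνe x (hQZ hx)).trans (hgPm x (hQP hx))
  refine (inE_of_res hS hF hE hQc hQn hQZ inf_le_right ?_
    ((mem_autGroup (inf_le_left.trans hNS)).1 hν) (hgo.coprime_dvd_left hνo)
    (hm.inE.congr fun x hx => (hνQ x hx).symm) fun x hx => ?_).congr hνe
  · exact fun x hx => (hNQ hx.1).2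
  · rw [hνQ x hx]
    exact ⟨autFun_mem m hx.1, hm.inE.apply_mem hx⟩

end Cfsg.Agent.Fus.ProdSub
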