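import Mathlib
import Cfsg.Agent.Lib.Fus.ProdSub.Lift

/-!
The automorphisms trivial modulo `T` lying in the subsystem on the trace: their coprime part meets
the automorphisms induced by `S` inside those induced by `T`.
-/

set_option autoImplicit false
set_option linter.style.haveILetI false
set_option linter.unusedSectionVars false

open scoped Classical

universe u

namespace Cfsg.Agent.Fus.ProdSub

open Subgroup FusionSystem

variable {Ω : Type u} [Group Ω] {S T : Subgroup Ω} {F : FusionSystem S} {E : FusionSystem T}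
  {p : ℕ}

theorem TMod.id (T P : Subgroup Ω) : TMod T P fun x => x := fun x _ => by
  rw [inv_mul_cancel]; exact T.one_mem

theorem RelAt.of_one {P : Subgroup Ω} {f : Ω → Ω} (h : RelAt F E 1 P f) :
    TMod T P f ∧ IsMap E (P ⊓ T) f :=
  ⟨fun x hx => by simpa using h.tmod x hx, h.inE.congr fun x _ => by simp⟩

theorem RelAt.mk_one {P : Subgroup Ω} {f : Ω → Ω} (h1 : IsMap F P f) (h2 : TMod T P f)
    (h3 : IsMap E (P ⊓ T) f) : RelAt F E 1 P f :=
  ⟨h1, fun x hx => by simpa using h2 x hx, h3.congr fun x _ => by simp⟩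

theorem Gd.of_relAt_one {P : Subgroup Ω} {α : MulAut P} (h : RelAt F E 1 P (autFun α))
    (ho : (orderOf α).Coprime p) : Gd F E p α :=
  ⟨h.isMap, ho, h.of_one.1, h.of_one.2⟩

variable [Finite S]

/-- The automorphisms of `P` trivial modulo `T` lying in `E` on the trace. -/
def Bst (hI : E.IsInvariantIn F) {P : Subgroup Ω} (hP : P ≤ S) : Subgroup (F.autGroup P) :=
  have hmul : ∀ {a b : MulAut P}, RelAt F E 1 P (autFun a) → RelAt F E 1 P (autFun b) →
      RelAt F E 1 P (autFun (a * b)) := fun {a b} ha hb => by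
    have := hb.comp hI S.one_mem ha fun x hx => autFun_mem b hx
    rw [one_mul] at this
    exact this.congr fun x hx => (autFun_mul a b hx).symm
  have hone : RelAt F E 1 P (autFun (1 : MulAut P)) :=
    (RelAt.conj hI.2.1 hP S.one_mem).congr fun x hx => by rw [autFun_one hx]; simp
  { carrier := {a | RelAt F E 1 P (autFun (a : MulAut P))}
    mul_mem' := fun ha hb => hmul ha hb
    one_mem' := hone
    inv_mem' := fun {a} ha => by
      haveI := finite_of_le hP
      have h : ∀ j : ℕ, RelAt F E 1 P (autFun ((a : MulAut P) ^ j)) := fun j => by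
        induction j with
        | zero => rw [pow_zero]; exact hone
        | succ j ih => rw [pow_succ]; exact hmul ih ha
      have e : (a : MulAut P)⁻¹ = (a : MulAut P) ^ (orderOf (a : MulAut P) - 1) :=
        inv_eq_of_mul_eq_one_right (by
          rw [← pow_succ', Nat.sub_add_cancel (orderOf_pos _), pow_orderOf_eq_one])
      show RelAt F E 1 P (autFun (a : MulAut P)⁻¹)
      rw [e]
      exact h _ }

theorem mem_Bst {hI : E.IsInvariantIn F} {P : Subgroup Ω} {hP : P ≤ S} {a : F.autGroup P} :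
    a ∈ Bst hI hP ↔ RelAt F E 1 P (autFun (a : MulAut P)) := Iff.rfl

theorem Bst_normal (hI : E.IsInvariantIn F) {P : Subgroup Ω} (hP : P ≤ S) :
    (Bst (F := F) hI hP).Normal := by
  refine ⟨fun a ha g => ?_⟩
  have hT := hI.2.1
  haveI := finite_of_le hP
  have ha' := (mem_Bst.1 ha).of_one
  have hg : IsMap F P (autFun (g : MulAut P)) := (mem_autGroup hP).1 g.2
  have hgi : IsMap F P (autFun (g : MulAut P)⁻¹) := (mem_autGroup hP).1 (inv_mem g.2)
  have hinvT : ∀ {h : MulAut P}, IsMap F P (autFun h) → ∀ x ∈ P ⊓ T, autFun h x ∈ P ⊓ T :=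
    fun {h} hh x hx => ⟨autFun_mem h hx.1,
      StronglyClosed.apply_mem hT (hh.res inf_le_left) inf_le_right hx⟩
  have hval : ∀ x ∈ P, autFun (((g * a * g⁻¹ : F.autGroup P) : MulAut P)) x =
      autFun (g : MulAut P) (autFun (a : MulAut P) (autFun (g : MulAut P)⁻¹ x)) := fun x hx => by
    rw [Subgroup.coe_mul, Subgroup.coe_mul, Subgroup.coe_inv, autFun_mul _ _ hx,
      autFun_mul _ _ (autFun_mem _ hx)]
  refine mem_Bst.2 (RelAt.mk_one ((mem_autGroup hP).1 (g * a * g⁻¹).2) (fun x hx => ?_) ?_)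
  · have hy := autFun_mem (g : MulAut P)⁻¹ hx
    set y := autFun (g : MulAut P)⁻¹ x with hyd
    have hxy : autFun (g : MulAut P) y = x := by
      rw [hyd, ← autFun_mul _ _ hx, mul_inv_cancel, autFun_one hx]
    rw [hval x hx, ← hyd]
    conv => enter [2, 1]; rw [← hxy]
    rw [← hg.map_inv hy, ← hg.map_mul (P.inv_mem hy) (autFun_mem _ hy)]
    exact StronglyClosed.apply_mem hT (hg.res inf_le_left) (inf_le_right : P ⊓ T ≤ T)
      ⟨P.mul_mem (P.inv_mem hy) (autFun_mem _ hy), ha'.1 y hy⟩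
  · obtain ⟨δ, hδ, hδe⟩ := exists_trace hI ha'.2
    obtain ⟨γ, hγ, hγe, -⟩ := exists_res_aut hg inf_le_left (hinvT hg)
    refine ((mem_autGroup inf_le_right).1
      (autGroup_conj_mem hI inf_le_right hγ hδ)).congr fun x hx => ?_
    have hgx : autFun γ⁻¹ x = autFun (g : MulAut P)⁻¹ x := by
      have h1 := hinvT hgi x hx
      have h2 : autFun γ (autFun (g : MulAut P)⁻¹ x) = x := by
        rw [hγe _ h1, ← autFun_mul _ _ hx.1, mul_inv_cancel, autFun_one hx.1]
      conv_lhs => rw [← h2]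
      exact autFun_inv_apply γ h1
    rw [autFun_mul _ _ hx, autFun_mul _ _ (autFun_mem _ hx), hval x hx.1,
      hγe _ (autFun_mem δ (autFun_mem _ hx)), hgx, hδe _ (hgx ▸ autFun_mem _ hx)]

variable (F E p) in
/-- The group generated by the good automorphisms. -/
def clGd (P : Subgroup Ω) : Subgroup (MulAut P) := Subgroup.closure {α | Gd F E p α}

theorem clGd_le {P : Subgroup Ω} (hP : P ≤ S) : clGd F E p P ≤ F.autGroup P :=
  (Subgroup.closure_le _).2 fun _ hα => (mem_autGroup hP).2 (Gd.isMap hα)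

theorem mem_clGd_iff (hI : E.IsInvariantIn F) {P : Subgroup Ω} (hP : P ≤ S) {α : MulAut P} :
    α ∈ clGd F E p P ↔
      α ∈ (pResidual p (Bst (F := F) hI hP)).map
        ((F.autGroup P).subtype.comp (Bst (F := F) hI hP).subtype) := by
  constructor
  · intro h
    refine (Subgroup.closure_le _).2 (fun a (ha : Gd F E p a) => ?_) h
    refine ⟨⟨⟨a, (mem_autGroup hP).2 ha.isMap⟩, RelAt.mk_one ha.isMap ha.tmod ha.inE⟩,
      Transfer.mem_pResidual_of_coprime ?_, rfl⟩
    rw [← Subgroup.orderOf_coe, ← Subgroup.orderOf_coe]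
    exact ha.coprime
  · intro h
    rw [pResidual, MonoidHom.map_closure] at h
    refine (Subgroup.closure_le _).2 ?_ h
    rintro _ ⟨a, ha, rfl⟩
    refine Subgroup.subset_closure (Gd.of_relAt_one a.2 ?_)
    rw [Set.mem_ofPred_eq, ← Subgroup.orderOf_coe, ← Subgroup.orderOf_coe] at ha
    exact ha

theorem nmh_mem_Bst (hI : E.IsInvariantIn F) {P : Subgroup Ω} (hP : P ≤ S) {t : Ω} (ht : t ∈ T)
    (hn : t ∈ Subgroup.normalizer (P : Set Ω)) :
    (⟨P.normalizerMonoidHom ⟨t, hn⟩, nmh_mem F hP (hI.2.1.1 ht) hn⟩ : F.autGroup P) ∈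
      Bst hI hP := by
  have hT := hI.2.1
  refine mem_Bst.2 (RelAt.mk_one ((mem_autGroup hP).1 (nmh_mem F hP (hT.1 ht) hn)) (fun x hx => ?_)
    ((isMap_conj E inf_le_right ht).congr fun x hx => (autFun_nmh hn hx.1).symm))
  rw [autFun_nmh hn hx, show x⁻¹ * (t * x * t⁻¹) = x⁻¹ * t * x * t⁻¹ by group]
  exact T.mul_mem (conj_inv_mem hT (hP hx) ht) (T.inv_mem ht)

theorem exists_sylow_Bst [Fact p.Prime] (hI : E.IsInvariantIn F) {P : Subgroup Ω}
    (hP : F.IsFullyAutomized p P) :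
    ∃ R : Sylow p (Bst (F := F) hI hP.1), ∀ a : Bst (F := F) hI hP.1,
      a ∈ (R : Subgroup (Bst (F := F) hI hP.1)) ↔
        ((a : F.autGroup P) : MulAut P) ∈ autInducedBy S P := by
  obtain ⟨hPS, W, hW⟩ := hP
  haveI := finite_of_le hPS
  haveI := Bst_normal (F := F) hI hPS
  obtain ⟨-, R, hR⟩ := isSylowOf_inf_normal W (Bst (F := F) hI hPS)
  refine ⟨R, fun a => ?_⟩
  rw [hR, Subgroup.mem_subgroupOf, Subgroup.mem_inf, hW, Subgroup.mem_subgroupOf]
  exact and_iff_left a.2

variable [Fact p.Prime]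

/-- An automorphism at a fully automized receptive subgroup is a product of good ones and one
extending over the normalizer in `T`. -/
theorem exists_split_aut (hI : E.IsInvariantIn F) {P : Subgroup Ω}
    (hP : F.IsFullyAutomized p P) (hPr : F.IsReceptive P) {a : MulAut P}
    (ha : a ∈ F.autGroup P) :
    ∃ r ∈ clGd F E p P, ∃ e, IsMap F (P ⊔ normalizerIn T P) e ∧
      ∀ x ∈ P, e x ∈ P ∧ autFun a x = autFun r (e x) := by
  have hPS := hP.1
  have hT := hI.2.1
  haveI := finite_of_le hPS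
  haveI := Bst_normal (F := F) hI hPS
  set B := Bst (F := F) hI hPS with hB
  obtain ⟨R, hR⟩ : ∃ R : Sylow p B, ∀ a : B, a ∈ (R : Subgroup B) ↔
      ((a : F.autGroup P) : MulAut P) ∈ autInducedBy S P := exists_sylow_Bst hI hP
  set Nr := Subgroup.normalizer (((R : Subgroup B).map B.subtype : Subgroup (F.autGroup P)) :
    Set (F.autGroup P)) with hNr
  have hmem : (⟨a, ha⟩ : F.autGroup P) ∈ B ⊔ Nr := by
    rw [sup_comm, hNr, Sylow.normalizer_sup_eq_top R]; exact mem_top _
  obtain ⟨b, hb, g, hg, hbg⟩ := Subgroup.mem_sup_of_normal_left.1 hmem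
  haveI := Transfer.instNormalPResidual (G := B) p
  have hb' : (⟨b, hb⟩ : B) ∈ pResidual p B ⊔ (R : Subgroup B) := by
    rw [sup_comm, Transfer.sylow_sup_pResidual]; exact mem_top _
  obtain ⟨r, hr, w, hw, hrw⟩ := Subgroup.mem_sup_of_normal_left.1 hb'
  obtain ⟨y, hy, hye⟩ := mem_autInducedBy.1 ((hR w).1 hw)
  obtain ⟨G, hG, hGe⟩ := receptive_extend hPr ((mem_autGroup hPS).1 g.2) (fimg_autFun _)
    (N := P ⊔ normalizerIn T P) (fun z hz => by
      obtain ⟨q, hq, t, ht, rfl⟩ := (InvMap.mem_sup_normalized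
        (inf_le_right : normalizerIn T P ≤ Subgroup.normalizer (P : Set Ω))).1 hz
      have htS : t ∈ S := hT.1 ht.1
      refine ⟨⟨S.mul_mem (hPS hq) htS, Subgroup.mul_mem _ (Subgroup.le_normalizer hq) ht.2⟩, ?_⟩
      let ct : F.autGroup P := ⟨P.normalizerMonoidHom ⟨t, ht.2⟩, nmh_mem F hPS htS ht.2⟩
      have hctB : ct ∈ B := nmh_mem_Bst hI hPS ht.1 ht.2
      have h1 : ct ∈ (R : Subgroup B).map B.subtype :=
        ⟨⟨ct, hctB⟩, (hR ⟨ct, hctB⟩).2 (InvMap.mem_autInducedBy_of_mem htS ht.2), rfl⟩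
      obtain ⟨v, hv, hve⟩ := (Subgroup.mem_normalizer_iff.1 hg ct).1 h1
      have h2 : (g : MulAut P) * P.normalizerMonoidHom ⟨t, ht.2⟩ * (g : MulAut P)⁻¹ ∈
          autInducedBy S P := by
        have h3 := (hR v).1 hv
        rwa [show ((v : F.autGroup P) : MulAut P) = _ from congrArg Subtype.val hve] at h3
      obtain ⟨k, hk, hke⟩ := SatCrit.exists_conj_transfer ht.2 (fun x => rfl) h2
      refine ⟨autFun (g : MulAut P) q * k, S.mul_mem (hPS (autFun_mem _ hq)) hk, fun x hx => ?_⟩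
      rw [show q * t * x * (q * t)⁻¹ = q * (t * x * t⁻¹) * q⁻¹ by group,
        ((mem_autGroup hPS).1 g.2).map_conj hq ((Subgroup.mem_normalizer_iff.1 ht.2 x).1 hx),
        hke x hx]
      group) le_sup_left
  refine ⟨((r : F.autGroup P) : MulAut P), (mem_clGd_iff hI hPS).2 ⟨r, hr, rfl⟩,
    fun z => y * G z * y⁻¹, hG.comp (isMap_conj F hG.fimg_le_S hy) fun z hz => apply_mem_fimg G hz,
    fun x hx => ?_⟩
  have hgx : G x ∈ P := hGe x hx ▸ autFun_mem _ hx
  have hw1 : autFun ((w : F.autGroup P) : MulAut P) (G x) = y * G x * y⁻¹ :=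
    (autFun_coe _ ⟨_, hgx⟩).trans (hye ⟨_, hgx⟩)
  refine ⟨?_, ?_⟩
  · show y * G x * y⁻¹ ∈ P
    rw [← hw1]; exact autFun_mem _ hgx
  · show autFun a x = autFun ((r : F.autGroup P) : MulAut P) (y * G x * y⁻¹)
    rw [← hw1, hGe x hx, ← autFun_mul _ _ (autFun_mem _ hx), ← autFun_mul _ _ hx,
      show a = ((b * g : F.autGroup P) : MulAut P) from (congrArg Subtype.val hbg).symm,
      show b = ((r * w : B) : F.autGroup P) from (congrArg Subtype.val hrw).symm]
    rfl

set_option maxHeartbeats 800000 in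
/-- The good automorphisms generate only those induced by `T` among those induced by `S`. -/
theorem clGd_inf_le (hS : IsPGroup p S) (hF : F.IsSaturated p) (hE : E.IsNormalIn F p)
    {P : Subgroup Ω} (hP : F.IsFullyAutomized p P) (hQn : F.IsFullyNormalized (P ⊓ T))
    (hQc : E.IsCentric (P ⊓ T)) :
    clGd F E p P ⊓ autInducedBy S P ≤ autInducedBy T P := by
  have hI : E.IsInvariantIn F := hE.1.2.2
  have hT := hI.2.1
  have hPS := hP.1
  haveI := finite_of_le hPS
  intro a ha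
  set B := Bst (F := F) hI hPS with hB
  obtain ⟨R, hR⟩ : ∃ R : Sylow p B, ∀ a : B, a ∈ (R : Subgroup B) ↔
      ((a : F.autGroup P) : MulAut P) ∈ autInducedBy S P := exists_sylow_Bst hI hP
  let ι : B →* MulAut P := (F.autGroup P).subtype.comp B.subtype
  obtain ⟨a', ha', rfl⟩ := (mem_clGd_iff hI hPS).1 ha.1
  let M : Subgroup B := (autInducedBy T P).comap ι
  suffices h : (groupFusionSystem (R : Subgroup B)).hyperfocalSubgroup p ≤ M by
    refine h ?_
    rw [hyperfocal_group R]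
    exact ⟨(hR a').2 ha.2, ha'⟩
  refine hyperfocal_le_iff.2 fun U hU α hα x hx => ?_
  have hG : (groupFusionSystem (R : Subgroup B)).autGroup U = autInducedBy ⊤ U := by
    rw [groupFusionSystem_eq, autGroup_ofSubgroup hU]
  have hfin : Finite U := inferInstance
  suffices h : ∀ x ∈ U, x⁻¹ * autFun (α : MulAut U) x ∈ M from h x hx
  rw [pResidual] at hα
  induction hα using Subgroup.closure_induction with
  | one => intro x hx; rw [Subgroup.coe_one, autFun_one hx, inv_mul_cancel]; exact M.one_mem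
  | mul α β _ _ ihα ihβ =>
    intro x hx
    rw [Subgroup.coe_mul, autFun_mul _ _ hx, show x⁻¹ * autFun (α : MulAut U) (autFun (β : MulAut U) x) =
      (x⁻¹ * autFun (β : MulAut U) x) *
        ((autFun (β : MulAut U) x)⁻¹ * autFun (α : MulAut U) (autFun (β : MulAut U) x)) by group]
    exact M.mul_mem (ihβ x hx) (ihα _ (autFun_mem _ hx))
  | inv α _ ih =>
    intro x hx
    have h1 := ih _ (autFun_mem (α : MulAut U)⁻¹ hx)
    rw [← autFun_mul _ _ hx, mul_inv_cancel, autFun_one hx] at h1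
    simpa using M.inv_mem h1
  | mem α hαo =>
    intro x hx
    have hαI : (α : MulAut U) ∈ autInducedBy ⊤ U := hG ▸ α.2
    obtain ⟨b0, -, hb0⟩ := mem_autInducedBy.1 hαI
    have hb0n : b0 ∈ Subgroup.normalizer (U : Set B) := mem_normalizer_of_conj_aut hb0
    have hαe : U.normalizerMonoidHom ⟨b0, hb0n⟩ = (α : MulAut U) :=
      MulEquiv.ext fun z => Subtype.ext (hb0 z).symm
    have hαo' : (orderOf (α : MulAut U)).Coprime p := by
      rw [Subgroup.orderOf_coe]; exact hαo
    obtain ⟨k, n, hn, hbn, hαk⟩ :=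
      InvExt.exists_coprime_power b0 hαo' (pow_orderOf_eq_one (α : MulAut U))
    set b := b0 ^ k with hbdef
    have hbo : (orderOf b).Coprime p :=
      hn.coprime_dvd_left (orderOf_dvd_of_pow_eq_one hbn)
    have hbnU : b ∈ Subgroup.normalizer (U : Set B) := Subgroup.pow_mem _ hb0n k
    have hαb : autFun (α : MulAut U) x = b * x * b⁻¹ := by
      rw [← hαk, ← hαe, ← map_pow]
      exact autFun_nmh hbnU hx
    rw [hαb]
    -- the automorphism and the subgroup inducing `U`
    let m : MulAut P := ι b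
    have hm : Gd F E p m := Gd.of_relAt_one b.2 (by
      show (orderOf ((b : F.autGroup P) : MulAut P)).Coprime p
      rw [Subgroup.orderOf_coe, Subgroup.orderOf_coe]
      exact hbo)
    let Y0 : Subgroup Ω :=
      { carrier := {y | y ∈ S ∧ ∃ u ∈ U, ∀ z : P, ((ι u z : P) : Ω) = y * z * y⁻¹}
        one_mem' := ⟨S.one_mem, 1, U.one_mem, fun z => by simp [ι]⟩
        mul_mem' := fun {y₁ y₂} ⟨h1, u₁, hu₁, he₁⟩ ⟨h2, u₂, hu₂, he₂⟩ =>
          ⟨S.mul_mem h1 h2, u₁ * u₂, U.mul_mem hu₁ hu₂, fun z => by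
            rw [map_mul, MulAut.mul_apply, he₁, he₂]; group⟩
        inv_mem' := fun {y} ⟨h1, u, hu, he⟩ => ⟨S.inv_mem h1, u⁻¹, U.inv_mem hu, fun z => by
          have h2 := he ((ι u)⁻¹ z)
          rw [MulAut.apply_inv_self] at h2
          rw [map_inv, h2]; group⟩ }
    have hY0n : Y0 ≤ Subgroup.normalizer (P : Set Ω) := by
      rintro y ⟨-, u, -, he⟩
      exact mem_normalizer_of_conj_aut he
    have hnorm0 : ∀ y ∈ Y0, ∃ y' ∈ Y0, ∀ z ∈ P,
        autFun m (y * z * y⁻¹) = y' * autFun m z * y'⁻¹ := by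
      rintro y ⟨hyS, u, hu, he⟩
      have hu' : b * u * b⁻¹ ∈ U := (Subgroup.mem_normalizer_iff.1 hbnU u).1 hu
      obtain ⟨y', hy', hye'⟩ := mem_autInducedBy.1 ((hR _).1 (hU hu'))
      refine ⟨y', ⟨hy', _, hu', hye'⟩, fun z hz => ?_⟩
      have h1 : ι (b * u * b⁻¹) * m = m * ι u := by
        simp only [m, ← map_mul, inv_mul_cancel_right]
      have h2 := congrArg (fun e : MulAut P => autFun e z) h1
      simp only [autFun_mul _ _ hz] at h2
      rw [show autFun (ι u) z = y * z * y⁻¹ from (autFun_coe _ ⟨z, hz⟩).trans (he ⟨z, hz⟩),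
        show autFun (ι (b * u * b⁻¹)) (autFun m z) = y' * autFun m z * y'⁻¹ from
          (autFun_coe _ ⟨_, autFun_mem m hz⟩).trans (hye' ⟨_, autFun_mem m hz⟩)] at h2
      exact h2.symm
    obtain ⟨N, hYN, g, hg, hgm⟩ := exists_ext_gd hS hF hE hP hQn hQc hm (Y := P ⊔ Y0) le_sup_left
      (sup_le (le_normalizerIn hPS) fun y hy => ⟨hy.1, hY0n hy⟩) (fun y hy => by
        obtain ⟨q, hq, y0, hy0, rfl⟩ := (InvMap.mem_sup_normalized hY0n).1 hy
        obtain ⟨y', hy', he⟩ := hnorm0 y0 hy0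
        refine ⟨autFun m q * y', Subgroup.mul_mem_sup (autFun_mem m hq) hy', fun z hz => ?_⟩
        rw [show q * y0 * z * (q * y0)⁻¹ = q * (y0 * z * y0⁻¹) * q⁻¹ by group,
          hm.isMap.map_conj hq ((Subgroup.mem_normalizer_iff.1 (hY0n hy0) z).1 hz), he z hz]
        group)
    obtain ⟨y, hy, hye⟩ : ∃ y ∈ S, ∀ z : P, ((ι x z : P) : Ω) = y * z * y⁻¹ :=
      mem_autInducedBy.1 ((hR x).1 (hU hx))
    have hyY : y ∈ Y0 := ⟨hy, x, hx, hye⟩
    have hyN : y ∈ N := hYN (Subgroup.mem_sup_right hyY)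
    refine mem_autInducedBy.2 ⟨y⁻¹ * autFun g y, hg.tmod y hyN, fun z => ?_⟩
    have hPN : P ≤ N := le_trans le_sup_left hYN
    have hgi : ∀ w ∈ P, autFun m (y * w * y⁻¹) = autFun g y * autFun m w * (autFun g y)⁻¹ :=
      fun w hw => by
        rw [← hgm _ ((Subgroup.mem_normalizer_iff.1 (hY0n hyY) w).1 hw),
          hg.isMap.map_conj hyN (hPN hw), hgm w hw]
    have hw : autFun m⁻¹ (z : Ω) ∈ P := autFun_mem _ z.2
    have e1 : (((ι (b * x * b⁻¹)) z : P) : Ω) = autFun g y * z * (autFun g y)⁻¹ := by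
      rw [← autFun_coe (ι (b * x * b⁻¹)) z, show ι (b * x * b⁻¹) = m * ι x * m⁻¹ by
        simp [m, map_mul, map_inv], autFun_mul _ _ z.2, autFun_mul _ _ hw,
        show autFun (ι x) (autFun m⁻¹ z) = y * autFun m⁻¹ z * y⁻¹ from
          (autFun_coe _ ⟨_, hw⟩).trans (hye ⟨_, hw⟩), hgi _ hw, ← autFun_mul _ _ z.2,
        mul_inv_cancel, autFun_one z.2]
    have h2 := hye ((ι x)⁻¹ (ι (b * x * b⁻¹) z))
    rw [MulAut.apply_inv_self, e1] at h2
    show ((ι (x⁻¹ * (b * x * b⁻¹)) z : P) : Ω) = _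
    rw [map_mul, map_inv, MulAut.mul_apply]
    calc (((ι x)⁻¹ (ι (b * x * b⁻¹) z) : P) : Ω)
        = y⁻¹ * (y * (((ι x)⁻¹ (ι (b * x * b⁻¹) z) : P) : Ω) * y⁻¹) * y := by group
      _ = y⁻¹ * (autFun g y * z * (autFun g y)⁻¹) * y := by rw [h2]
      _ = _ := by group

end Cfsg.Agent.Fus.ProdSub
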