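import Mathlib
import Cfsg.Agent.Lib.Fus.ProdSub.Hyper

/-!
Every map is a generated map followed by a map defined above `T`.
-/

set_option autoImplicit false
set_option linter.style.haveILetI false
set_option linter.unusedSectionVars false

open scoped Classical

universe u

namespace Cfsg.Agent.Fus.ProdSub

open Subgroup FusionSystem

variable {Ω : Type u} [Group Ω] {S T : Subgroup Ω} {F : FusionSystem S} {E : FusionSystem T}
  {p : ℕ}

variable (F E p) in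
/-- A generated map followed by a map defined on the join with `T`. -/
def Dec (P : Subgroup Ω) (f : Ω → Ω) : Prop :=
  ∃ e β, Gen F E p ⊥ S P e ∧ IsMap F (P ⊔ T) β ∧ ∀ x ∈ P, f x = β (e x)

theorem Dec.res {P P' : Subgroup Ω} {f : Ω → Ω} (h : Dec F E p P f) (hP : P' ≤ P) :
    Dec F E p P' f := by
  obtain ⟨e, β, he, hβ, hf⟩ := h
  exact ⟨e, β, he.res hP, hβ.res (sup_le_sup_right hP T), fun x hx => hf x (hP hx)⟩

theorem Dec.congr {P : Subgroup Ω} {f f' : Ω → Ω} (h : Dec F E p P f)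
    (e : ∀ x ∈ P, f' x = f x) : Dec F E p P f' := by
  obtain ⟨e₀, β, he, hβ, hf⟩ := h
  exact ⟨e₀, β, he, hβ, fun x hx => (e x hx).trans (hf x hx)⟩

theorem Dec.of_gen (hI : E.IsInvariantIn F) {P : Subgroup Ω} {f : Ω → Ω}
    (h : Gen F E p ⊥ S P f) : Dec F E p P f :=
  ⟨f, fun x => x, h, isMap_id F (sup_le h.source_le hI.2.1.1), fun _ _ => rfl⟩

variable [Finite S]

theorem Dec.isMap (hI : E.IsInvariantIn F) {P : Subgroup Ω} {f : Ω → Ω} (h : Dec F E p P f) :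
    IsMap F P f := by
  obtain ⟨e, β, he, hβ, hf⟩ := h
  exact ((he.isMap bot_le le_rfl).comp hβ fun x hx => (he.tmod hI).1.apply_mem_sup hx).congr
    fun x hx => (hf x hx).symm

theorem Dec.comp (hI : E.IsInvariantIn F) {P Q : Subgroup Ω} {f g : Ω → Ω}
    (hf : Dec F E p P f) (hfQ : fimg f P = Q) (hg : Dec F E p Q g) :
    Dec F E p P fun x => g (f x) := by
  have hT := hI.2.1
  obtain ⟨e₁, β₁, he₁, hβ₁, hf₁⟩ := hf
  obtain ⟨e₂, β₂, he₂, hβ₂, hg₂⟩ := hg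
  have he₁m := he₁.isMap bot_le le_rfl
  have hPT : fimg e₁ P ⊔ T = P ⊔ T := fimg_sup_eq (he₁.tmod hI).1
  have hle : fimg e₁ P ≤ P ⊔ T := le_sup_left.trans hPT.le
  have h1 : fimg β₁ (fimg e₁ P) = Q := by
    rw [← he₁m.fimg_comp β₁, ← fimg_congr hf₁, hfQ]
  have hT' : fimg β₁ T = T := InvMap.fimg_top hT (hβ₁.res le_sup_right)
  have hL : fimg β₁ (P ⊔ T) = Q ⊔ T := by
    conv_lhs => rw [← hPT]
    rw [(hβ₁.res hPT.le).fimg_sup, h1, hT']
  obtain ⟨b, hb, hb1, hb2, -⟩ := hβ₁.exists_inv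
  rw [hL] at hb hb2
  have hQL : Q ≤ Q ⊔ T := le_sup_left
  obtain ⟨hm₂, ht⟩ := Gen.twist hI hb le_sup_right he₂ Q le_rfl hQL
  have hg' := ht (fun y => b (e₂ (β₁ y))) fun x hx => by
    show b (e₂ (β₁ (b x))) = b (e₂ x)
    rw [(hb2 x (hQL hx)).2]
  have hbQ : ∀ x ∈ P, b (f x) = e₁ x := fun x hx => by
    rw [hf₁ x hx, hb1 _ (hle (apply_mem_fimg e₁ hx))]
  refine ⟨fun x => b (e₂ (β₁ (e₁ x))), fun z => β₂ (β₁ z),
    .comp he₁ hg' (fun x hx => ?_) fun x hx => rfl,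
    hβ₁.comp hβ₂ (fun x hx => hL.le (apply_mem_fimg β₁ hx)), fun x hx => ?_⟩
  · rw [← hbQ x hx]
    exact apply_mem_fimg b (hfQ ▸ apply_mem_fimg f hx)
  · show g (f x) = β₂ (β₁ (b (e₂ (β₁ (e₁ x)))))
    have hfx : f x ∈ Q := hfQ ▸ apply_mem_fimg f hx
    rw [← hf₁ x hx, (hb2 _ (hm₂ _ hfx)).2, hg₂ _ hfx]

theorem card_inf_eq (hT : F.StronglyClosed T) {P : Subgroup Ω} {f : Ω → Ω} (hf : IsMap F P f) :
    Nat.card ↥(fimg f P ⊓ T) = Nat.card ↥(P ⊓ T) := by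
  rw [← InvClass.fimg_inf hT hf, (hf.res inf_le_left).card_fimg]

theorem gen_of_clGd (hI : E.IsInvariantIn F) {W : Subgroup Ω} (hW : W ≤ S)
    (hc : E.IsCentric (W ⊓ T)) {a : MulAut W} (ha : a ∈ clGd F E p W) :
    Gen F E p ⊥ S W (autFun a) := by
  induction ha using Subgroup.closure_induction with
  | mem a ha => exact .aut hW hc ha le_rfl fun _ _ => rfl
  | one => exact (Gen.id hW).congr fun x hx => autFun_one hx
  | mul a b _ _ iha ihb =>
    exact .comp ihb iha (fun x hx => autFun_mem b hx) fun x hx => autFun_mul a b hx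
  | inv a _ ih =>
    have := ih.inv bot_le le_rfl (autFun a⁻¹) fun x hx => autFun_inv_apply a hx
    rwa [fimg_autFun] at this

variable [Fact p.Prime]

/-- A subgroup conjugate is fully normalized with fully normalized trace. -/
theorem exists_conj_fn (hS : IsPGroup p S) (hF : F.IsSaturated p) (hT : F.StronglyClosed T)
    {P : Subgroup Ω} (hP : P ≤ S) : ∃ P₀, F.IsConj P P₀ ∧ F.IsFullyNormalized P₀ ∧
      F.IsFullyNormalized (P₀ ⊓ T) := by
  obtain ⟨P₁, hP₁, hP₁n⟩ := exists_fullyNormalized F hP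
  obtain ⟨Q', hQ', hQ'n⟩ := exists_fullyNormalized F
    (inf_le_left.trans hP₁n.1 : P₁ ⊓ T ≤ S)
  obtain ⟨h, hh, hhQ, -⟩ := exists_map_to_fullyNormalized hS hF hQ'n hQ'
  have hN : normalizerIn S P₁ ≤ normalizerIn S (P₁ ⊓ T) := normalizerIn_le_inf hT P₁
  have hPN := le_normalizerIn (S := S) hP₁n.1
  have hhP := hh.res (hPN.trans hN)
  refine ⟨fimg h P₁, isConj_trans hP₁ hhP.isConj, ⟨hhP.fimg_le_S, fun R hR => ?_⟩,
    by rw [← InvClass.fimg_inf hT hhP, hhQ]; exact hQ'n⟩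
  haveI : Finite ↥(normalizerIn S (fimg h P₁)) := finite_of_le (S := S) inf_le_left
  refine (hP₁n.2 R (isConj_trans hhP.isConj hR)).trans ?_
  rw [← (hh.res hN).card_fimg]
  exact Subgroup.card_le_of_le (fimg_le fun g hg => (hh.res hN).map_normalizerIn hPN hg hg.2)

theorem lt_inf_of_mem {P M : Subgroup Ω} [Finite M] (hPM : P ≤ M) {t : Ω} (ht : t ∈ M)
    (htT : t ∈ T) (htP : t ∉ P) : Nat.card ↥(P ⊓ T) < Nat.card ↥(M ⊓ T) := by
  haveI : Finite ↥(M ⊓ T) := finite_of_le (S := M) inf_le_left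
  refine card_lt_of_lt (lt_of_le_of_ne (inf_le_inf_right T hPM) fun h => htP ?_)
  exact (h.ge ⟨ht, htT⟩).1

theorem exists_mem_normalizer_T (hS : IsPGroup p S) (hT : F.StronglyClosed T) {P : Subgroup Ω}
    (hP : P ≤ S) (h : ¬ T ≤ P) : ∃ t ∈ normalizerIn T P, t ∉ P := by
  have hM : P ⊔ T ≤ S := sup_le hP hT.1
  haveI : Finite ↥(P ⊔ T) := finite_of_le hM
  have hlt : P < P ⊔ T := lt_of_le_of_ne le_sup_left fun e => h (e ▸ le_sup_right)
  obtain ⟨g, hg, hgP⟩ := SetLike.exists_of_lt (lt_normalizerIn (hS.to_le hM) hlt)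
  have hPT : P ≤ Subgroup.normalizer (T : Set Ω) := le_normalizer_T hT hP
  obtain ⟨t, ht, q, hq, rfl⟩ := (InvMap.mem_sup_normalized hPT).1
    (show g ∈ T ⊔ P from sup_comm P T ▸ hg.1)
  refine ⟨t, ⟨ht, ?_⟩, fun htP => hgP (P.mul_mem htP hq)⟩
  have := Subgroup.mul_mem _ hg.2 (Subgroup.inv_mem _ (Subgroup.le_normalizer hq))
  rwa [mul_inv_cancel_right] at this

theorem exists_cent_normalizer (hS : IsPGroup p S) (hT : F.StronglyClosed T) {P : Subgroup Ω}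
    (hP : P ≤ S) (h : ¬ centralizerIn T (P ⊓ T) ≤ P ⊓ T) :
    ∃ t ∈ centralizerIn (normalizerIn T P) (P ⊓ T), t ∉ P := by
  set C := centralizerIn T (P ⊓ T)
  have hCS : C ≤ S := inf_le_left.trans hT.1
  have key : ∀ g ∈ P, ∀ c ∈ C, g * c * g⁻¹ ∈ C := fun g hg c hc => by
    refine mem_centralizerIn.2 ⟨StronglyClosed.conj_mem' hT (hP hg) hc.1, fun q hq => ?_⟩
    have hq' : g⁻¹ * q * g ∈ P ⊓ T := ⟨P.mul_mem (P.mul_mem (P.inv_mem hg) hq.1) hg,
      conj_inv_mem hT (hP hg) hq.2⟩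
    have h1 := (mem_centralizerIn.1 hc).2 _ hq'
    calc q * (g * c * g⁻¹) = g * (g⁻¹ * q * g * c) * g⁻¹ := by group
      _ = g * (c * (g⁻¹ * q * g)) * g⁻¹ := by rw [h1]
      _ = g * c * g⁻¹ * q := by group
  have hPC : P ≤ Subgroup.normalizer (C : Set Ω) := fun g hg => mem_normalizer_of_forall (key g hg)
    fun c hc => by simpa using key g⁻¹ (P.inv_mem hg) c hc
  have hM : C ⊔ P ≤ S := sup_le hCS hP
  haveI : Finite ↥(C ⊔ P) := finite_of_le hM
  have hlt : P < C ⊔ P := lt_of_le_of_ne le_sup_right fun e => by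
    refine h fun c hc => ⟨?_, hc.1⟩
    rw [e]; exact Subgroup.mem_sup_left hc
  obtain ⟨g, hg, hgP⟩ := SetLike.exists_of_lt (lt_normalizerIn (hS.to_le hM) hlt)
  obtain ⟨c, hc, q, hq, rfl⟩ := (InvMap.mem_sup_normalized hPC).1 hg.1
  refine ⟨c, ⟨⟨hc.1, ?_⟩, hc.2⟩, fun hcP => hgP (P.mul_mem hcP hq)⟩
  have := Subgroup.mul_mem _ hg.2 (Subgroup.inv_mem _ (Subgroup.le_normalizer hq))
  rwa [mul_inv_cancel_right] at this

/-- Automorphisms extend over the normalizing elements centralizing the trace. -/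
theorem exists_ext_cent (hS : IsPGroup p S) (hT : F.StronglyClosed T) {P : Subgroup Ω}
    (hP : F.IsFullyAutomized p P) (hPr : F.IsReceptive P) {a : MulAut P}
    (ha : a ∈ F.autGroup P) :
    ∃ e, IsMap F (P ⊔ centralizerIn (normalizerIn T P) (P ⊓ T)) e ∧
      ∀ x ∈ P, e x = autFun a x := by
  have hPS := hP.1
  haveI := Kst_normal (F := F) (hT := hT) hPS
  refine receptive_extend hPr ((mem_autGroup hPS).1 ha) (fimg_autFun _) (fun z hz => ?_) le_sup_left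
  obtain ⟨q, hq, t, ht, rfl⟩ := (InvMap.mem_sup_normalized
    (inf_le_left.trans inf_le_right :
      centralizerIn (normalizerIn T P) (P ⊓ T) ≤ Subgroup.normalizer (P : Set Ω))).1 hz
  obtain ⟨⟨htT, htn⟩, htc⟩ := mem_centralizerIn.1 ht
  have htS : t ∈ S := hT.1 htT
  refine ⟨⟨S.mul_mem (hPS hq) htS, Subgroup.mul_mem _ (Subgroup.le_normalizer hq) htn⟩, ?_⟩
  let ct : F.autGroup P := ⟨P.normalizerMonoidHom ⟨t, htn⟩, nmh_mem F hPS htS htn⟩
  have hct : ct ∈ Kst F T P hT := mem_Kst_iff.2 ⟨fun x hx => by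
      show autFun (P.normalizerMonoidHom ⟨t, htn⟩) x = x
      rw [autFun_nmh htn hx.1, ← htc x hx, mul_inv_cancel_right], fun x hx => by
      show x⁻¹ * autFun (P.normalizerMonoidHom ⟨t, htn⟩) x ∈ T
      rw [autFun_nmh htn hx, show x⁻¹ * (t * x * t⁻¹) = x⁻¹ * t * x * t⁻¹ by group]
      exact T.mul_mem (conj_inv_mem hT (hPS hx) htT) (T.inv_mem htT)⟩
  have h2 : a * P.normalizerMonoidHom ⟨t, htn⟩ * a⁻¹ ∈ autInducedBy S P :=
    Kst_le_autInducedBy hS hP (Subgroup.Normal.conj_mem inferInstance ct hct ⟨a, ha⟩)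
  obtain ⟨k, hk, hke⟩ := SatCrit.exists_conj_transfer htn (fun x => rfl) h2
  refine ⟨autFun a q * k, S.mul_mem (hPS (autFun_mem _ hq)) hk, fun x hx => ?_⟩
  rw [show q * t * x * (q * t)⁻¹ = q * (t * x * t⁻¹) * q⁻¹ by group,
    ((mem_autGroup hPS).1 ha).map_conj hq ((Subgroup.mem_normalizer_iff.1 htn x).1 hx), hke x hx]
  group

theorem exists_cent_not_le (hS : IsPGroup p S) (hF : F.IsSaturated p) (hI : E.IsInvariantIn F)
    {Q : Subgroup Ω} (hQT : Q ≤ T) (hQn : F.IsFullyNormalized Q) (hQc : ¬ E.IsCentric Q) :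
    ¬ centralizerIn T Q ≤ Q := by
  intro hle
  refine hQc ⟨hQT, fun Q' hQ' => ?_⟩
  obtain ⟨f, hf, hfQ⟩ := isConj_iff.1 hQ'
  have hQ'Q : F.IsConj Q' Q :=
    isConj_symm (isConj_iff.2 ⟨f, hf.mono hI.1, hfQ⟩)
  obtain ⟨h, hh, hhQ, -⟩ := exists_map_to_fullyNormalized hS hF hQn hQ'Q
  have hQ'T : Q' ≤ T := hfQ ▸ hf.fimg_le_S
  have hQ'N : Q' ≤ normalizerIn S Q' := le_normalizerIn (hQ'T.trans hI.2.1.1)
  intro c hc
  have hcN : c ∈ normalizerIn S Q' := centralizerIn_le_normalizerIn Q' ⟨hI.2.1.1 hc.1, hc.2⟩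
  have h1 : h c ∈ centralizerIn T Q := by
    refine ⟨StronglyClosed.apply_mem hI.2.1 (hh.res inf_le_left)
      (inf_le_right : normalizerIn S Q' ⊓ T ≤ T) ⟨hcN, hc.1⟩, ?_⟩
    have := hh.map_centralizerIn hQ'N hcN hc.2
    rw [hhQ] at this
    exact this.2
  obtain ⟨x, hx, hxe⟩ := (hh.res hQ'N).mem_fimg_iff.1 (hhQ.ge (hle h1))
  rwa [← hh.injOn (hQ'N hx) hcN hxe]

/-- Every map is a generated map followed by a map defined above `T`. -/
theorem exists_dec (hS : IsPGroup p S) (hF : F.IsSaturated p) (hI : E.IsInvariantIn F) :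
    ∀ {P : Subgroup Ω} {f : Ω → Ω}, IsMap F P f → Dec F E p P f := by
  intro P f hf
  induction hn : Nat.card T - Nat.card ↥(P ⊓ T) using Nat.strong_induction_on
    generalizing P f with
  | _ n ih =>
  have hT := hI.2.1
  have hPS := hf.source_le
  haveI : Finite T := finite_of_le hT.1
  haveI : Finite P := finite_of_le hPS
  by_cases hTP : T ≤ P
  · exact ⟨fun x => x, f, Gen.id hPS, by rwa [sup_eq_left.2 hTP], fun x _ => rfl⟩
  -- maps with bigger trace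
  have big : ∀ {P' : Subgroup Ω} {f' : Ω → Ω}, IsMap F P' f' →
      Nat.card ↥(P ⊓ T) < Nat.card ↥(P' ⊓ T) → Dec F E p P' f' := fun {P' f'} hf' hlt => by
    haveI : Finite ↥(P' ⊓ T) := finite_of_le (S := T) inf_le_right
    have h2 : Nat.card ↥(P' ⊓ T) ≤ Nat.card T := Subgroup.card_le_of_le inf_le_right
    exact ih (Nat.card T - Nat.card ↥(P' ⊓ T)) (by omega) hf' rfl
  obtain ⟨P₀, hP₀, hP₀n, hQ₀n⟩ := exists_conj_fn hS hF hT hPS
  set Q := fimg f P with hQdef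
  obtain ⟨v₁, hv₁, hv₁P, -⟩ := exists_map_to_fullyNormalized hS hF hP₀n hP₀
  obtain ⟨v₂, hv₂, hv₂Q, -⟩ := exists_map_to_fullyNormalized hS hF hP₀n
    (isConj_trans (isConj_symm hf.isConj) hP₀)
  -- extension to the normalizers
  have hQS : Q ≤ S := hf.fimg_le_S
  have hTQ : ¬ T ≤ Q := fun h => hTP fun x hx => by
    have e : Nat.card T ≤ Nat.card ↥(P ⊓ T) := by
      rw [← card_inf_eq hT hf, inf_eq_right.2 h]
    exact ((Subgroup.eq_of_le_of_card_ge inf_le_right e).ge hx).1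
  have hNle : ∀ W : Subgroup Ω, W ≤ S → W ⊔ normalizerIn T W ≤ normalizerIn S W := fun W hW =>
    sup_le (le_normalizerIn hW) fun x hx => ⟨hT.1 hx.1, hx.2⟩
  obtain ⟨t₁, ht₁, ht₁P⟩ := exists_mem_normalizer_T hS hT hPS hTP
  obtain ⟨t₂, ht₂, ht₂Q⟩ := exists_mem_normalizer_T hS hT hQS hTQ
  have d₁ : Dec F E p P v₁ := by
    haveI : Finite ↥(P ⊔ normalizerIn T P) :=
      finite_of_le ((hNle P hPS).trans inf_le_left)
    exact (big (hv₁.res (hNle P hPS)) (lt_inf_of_mem le_sup_left (Subgroup.mem_sup_right ht₁)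
      ht₁.1 ht₁P)).res le_sup_left
  obtain ⟨b, hb, hb1, hb2, -⟩ := (hv₂.res (hNle Q hQS)).exists_inv
  have d₂ : Dec F E p P₀ b := by
    haveI : Finite ↥(Q ⊔ normalizerIn T Q) :=
      finite_of_le ((hNle Q hQS).trans inf_le_left)
    refine (big hb ?_).res (hv₂Q ▸ fimg_mono v₂ le_sup_left)
    rw [card_inf_eq hT (hv₂.res (hNle Q hQS)), ← card_inf_eq hT hf]
    exact lt_inf_of_mem le_sup_left (Subgroup.mem_sup_right ht₂) ht₂.1 ht₂Q
  -- the automorphism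
  have hPN := le_normalizerIn (S := S) hPS
  have hQN := le_normalizerIn (S := S) hQS
  obtain ⟨c, hc, hc1, hc2, -⟩ := (hv₁.res hPN).exists_inv
  rw [hv₁P] at hc hc2
  have hcQ : ∀ x ∈ P₀, f (c x) ∈ Q := fun x hx => apply_mem_fimg f (hc2 x hx).1
  have hmap : IsMap F P₀ fun x => v₂ (f (c x)) :=
    (hc.comp hf fun x hx => (hc2 x hx).1).comp (hv₂.res hQN) hcQ
  haveI : Finite P₀ := finite_of_le hP₀n.1
  obtain ⟨a, ha, hae⟩ := hmap.exists_aut (Subgroup.eq_of_le_of_card_ge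
    (fimg_le fun x hx => hv₂Q ▸ apply_mem_fimg v₂ (hcQ x hx)) hmap.card_fimg.ge)
  have hcard₀ : Nat.card ↥(P₀ ⊓ T) = Nat.card ↥(P ⊓ T) := by
    rw [← hv₁P, card_inf_eq hT (hv₁.res hPN)]
  have hTP₀ : ¬ T ≤ P₀ := fun h => hTP fun x hx => by
    have e : Nat.card T ≤ Nat.card ↥(P ⊓ T) := by rw [← hcard₀, inf_eq_right.2 h]
    exact ((Subgroup.eq_of_le_of_card_ge inf_le_right e).ge hx).1
  have hP₀a := fullyAutomized_of_fullyNormalized hS hF hP₀n
  have hP₀r := receptive_of_fullyNormalized hS hF hP₀n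
  have dA : Dec F E p P₀ (autFun a) := by
    by_cases hQc : E.IsCentric (P₀ ⊓ T)
    · obtain ⟨r, hr, e, he, hre⟩ := exists_split_aut hI hP₀a hP₀r ha
      obtain ⟨t, ht, htP⟩ := exists_mem_normalizer_T hS hT hP₀n.1 hTP₀
      haveI : Finite ↥(P₀ ⊔ normalizerIn T P₀) := finite_of_le he.source_le
      have de : Dec F E p P₀ e := (big he (hcard₀ ▸ lt_inf_of_mem le_sup_left
        (Subgroup.mem_sup_right ht) ht.1 htP)).res le_sup_left
      have hem := he.res (le_sup_left : P₀ ≤ P₀ ⊔ normalizerIn T P₀)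
      exact (de.comp hI (Subgroup.eq_of_le_of_card_ge (fimg_le fun x hx => (hre x hx).1)
        hem.card_fimg.ge) (Dec.of_gen hI (gen_of_clGd hI hP₀n.1 hQc hr))).congr
          fun x hx => (hre x hx).2
    · obtain ⟨t, ht, htP⟩ := exists_cent_normalizer hS hT hP₀n.1
        (exists_cent_not_le hS hF hI inf_le_right hQ₀n hQc)
      obtain ⟨e, he, hee⟩ := exists_ext_cent hS hT hP₀a hP₀r ha
      haveI : Finite ↥(P₀ ⊔ centralizerIn (normalizerIn T P₀) (P₀ ⊓ T)) :=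
        finite_of_le he.source_le
      exact ((big he (hcard₀ ▸ lt_inf_of_mem le_sup_left (Subgroup.mem_sup_right ht) ht.1.1
        htP)).res le_sup_left).congr fun x hx => (hee x hx).symm
  refine ((d₁.comp hI hv₁P dA).comp hI ?_ d₂).congr fun x hx => ?_
  · rw [(hv₁.res hPN).fimg_comp (autFun a), hv₁P, fimg_autFun]
  · show f x = b (autFun a (v₁ x))
    have hx0 : v₁ x ∈ P₀ := hv₁P ▸ apply_mem_fimg v₁ hx
    rw [hae _ hx0, hc1 x hx, hb1 _ (Subgroup.mem_sup_left (apply_mem_fimg f hx))]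

end Cfsg.Agent.Fus.ProdSub
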