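import Mathlib
import Cfsg.Agent.Lib.Fus.ProdSub.Decomp
import Cfsg.Agent.Lib.Fus.SatCriterion

/-!
The automizer in the generated system of a fully normalized subgroup with centric trace, given
saturation above it.
-/

set_option autoImplicit false
set_option linter.style.haveILetI false
set_option linter.unusedSectionVars false

open scoped Classical

universe u

namespace Cfsg.Agent.Fus.ProdSub

open Subgroup FusionSystem

variable {Ω : Type u} [Group Ω] {S T R : Subgroup Ω} {F : FusionSystem S} {E : FusionSystem T}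
  {p : ℕ}

variable (F E p) in
/-- The good automorphisms and those induced by `R`. -/
def H0 (R P : Subgroup Ω) : Subgroup (MulAut P) := clGd F E p P ⊔ autInducedBy R P

variable (F E p) in
/-- The function agrees on `P` with an element of `H0`. -/
def InH (R P : Subgroup Ω) (f : Ω → Ω) : Prop := ∃ η ∈ H0 F E p R P, ∀ x ∈ P, f x = autFun η x

theorem InH.congr {P : Subgroup Ω} {f f' : Ω → Ω} (h : InH F E p R P f)
    (e : ∀ x ∈ P, f' x = f x) : InH F E p R P f' := by
  obtain ⟨η, hη, he⟩ := h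
  exact ⟨η, hη, fun x hx => (e x hx).trans (he x hx)⟩

theorem InH.comp {P : Subgroup Ω} {f g : Ω → Ω} (hf : InH F E p R P f) (hg : InH F E p R P g) :
    InH F E p R P fun x => g (f x) := by
  obtain ⟨η, hη, he⟩ := hf
  obtain ⟨μ, hμ, hμe⟩ := hg
  refine ⟨μ * η, mul_mem hμ hη, fun x hx => ?_⟩
  show g (f x) = _
  rw [he x hx, hμe _ (autFun_mem η hx), autFun_mul _ _ hx]

theorem InH.inv {P : Subgroup Ω} {f g : Ω → Ω} (hf : InH F E p R P f)
    (e : ∀ x ∈ P, g (f x) = x) : InH F E p R P g := by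
  obtain ⟨η, hη, he⟩ := hf
  refine ⟨η⁻¹, inv_mem hη, fun y hy => ?_⟩
  have h1 : autFun η⁻¹ y ∈ P := autFun_mem _ hy
  have h2 : f (autFun η⁻¹ y) = y := by
    rw [he _ h1, ← autFun_mul _ _ hy, mul_inv_cancel, autFun_one hy]
  conv_lhs => rw [← h2]
  exact e _ h1

theorem InH.of_conj {P : Subgroup Ω} {r : Ω} (hr : r ∈ R)
    (hn : r ∈ Subgroup.normalizer (P : Set Ω)) : InH F E p R P fun x => r * x * r⁻¹ :=
  ⟨_, Subgroup.mem_sup_right (InvMap.mem_autInducedBy_of_mem hr hn),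
    fun _ hx => (autFun_nmh hn hx).symm⟩

variable [Finite S] [Fact p.Prime] (hS : IsPGroup p S) (hI : E.IsInvariantIn F) (hRS : R ≤ S)

include hI in
/-- Transport of a good automorphism gives an element of `H0`. -/
theorem InH.of_gd {Q P : Subgroup Ω} {u : Ω → Ω} (hu : IsMap F Q u) (huP : fimg u Q = P)
    {α : MulAut Q} (hα : Gd F E p α) {f : Ω → Ω}
    (hf : ∀ x ∈ Q, f (u x) = u (autFun α x)) : InH F E p R P f := by
  obtain ⟨e, he, -⟩ := exists_mulEquiv hu huP
  refine ⟨MulAut.congr e α, Subgroup.mem_sup_left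
    (Subgroup.subset_closure (Gd.congr_map hI hu huP e he hα)), fun y hy => ?_⟩
  obtain ⟨x, hx, rfl⟩ := hu.mem_fimg_iff.1 (huP.ge hy)
  rw [hf x hx, InvMap.autFun_congr e he α hx]

omit hS in
theorem mem_sys_conj {P₀ Q : Subgroup Ω} (h : (sys F E p hRS).IsConj P₀ Q) : F.IsConj P₀ Q := by
  obtain ⟨f, hf, rfl⟩ := isConj_iff.1 h
  exact ((isMap_sys.1 hf).isMap le_rfl hRS).isConj

include hS in
/-- A relation closed under composition, holding for the maps with larger source and for the good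
automorphisms of the class, holds for all maps on the class. -/
theorem gen_induct {P₀ : Subgroup Ω} (hlt : P₀ < R) (G : Subgroup Ω → (Ω → Ω) → Prop)
    (hcongr : ∀ Q f g, G Q f → (∀ x ∈ Q, f x = g x) → G Q g)
    (hcomp : ∀ Q f g, (sys F E p hRS).IsConj P₀ Q → IsMap (sys F E p hRS) Q f →
      IsMap (sys F E p hRS) (fimg f Q) g → G Q f → G (fimg f Q) g → G Q fun x => g (f x))
    (hbig : ∀ Q X f, (sys F E p hRS).IsConj P₀ Q → Q < X → X ≤ normalizerIn R Q →
      IsMap (sys F E p hRS) X f → G Q f)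
    (hself : ∀ Q, (sys F E p hRS).IsConj P₀ Q → ∀ α : MulAut Q, Gd F E p α → G Q (autFun α))
    {P : Subgroup Ω} {f : Ω → Ω} (h : Gen F E p R R P f) :
    ∀ Q ≤ P, (sys F E p hRS).IsConj P₀ Q → G Q f := by
  haveI : Finite R := finite_of_le hRS
  induction h with
  | @conj P f r hP hr he =>
    intro Q hQP hQ
    have hQlt : Q < R := lt_of_le_of_ne (isConj_le_right hQ) fun e => by
      have h1 := isConj_card hQ
      rw [e] at h1
      have h2 := card_lt_of_lt hlt
      omega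
    haveI : Finite ↥(normalizerIn R Q) := finite_of_le (S := R) inf_le_left
    exact hcongr _ _ _ (hbig Q _ _ hQ (lt_normalizerIn (hS.to_le hRS) hQlt) le_rfl
      (isMap_conj (sys F E p hRS) inf_le_left hr)) fun x hx => (he x (hQP hx)).symm
  | @aut P W α f hW hc hα hPW he =>
    intro Q hQP hQ
    have hQW := hQP.trans hPW
    refine hcongr Q (autFun α) f ?_ fun x hx => (he x (hQP hx)).symm
    rcases hQW.eq_or_lt with e | hlt'
    · subst e
      exact hself Q hQ α hα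
    haveI : Finite W := finite_of_le (hW.trans hRS)
    exact hbig Q (normalizerIn W Q) _ hQ (lt_normalizerIn (hS.to_le (hW.trans hRS)) hlt')
      (fun x hx => ⟨hW hx.1, hx.2⟩)
      (isMap_sys.2 (.aut hW hc hα inf_le_left fun _ _ => rfl))
  | @comp P₁ Q₁ f g h hf hg hm he ih₁ ih₂ =>
    intro Q hQP hQ
    have hle : fimg f Q ≤ Q₁ := fimg_le fun x hx => hm x (hQP hx)
    have hfm : IsMap (sys F E p hRS) Q f := (isMap_sys.2 hf).res hQP
    exact hcongr _ _ _ (hcomp Q f g hQ hfm ((isMap_sys.2 hg).res hle) (ih₁ Q hQP hQ)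
      (ih₂ _ hle (isConj_trans hQ hfm.isConj))) fun x hx => (he x (hQP hx)).symm

include hS in
/-- Every member of the class maps up to a fully normalized one. -/
theorem exists_up {P₀ : Subgroup Ω} (hn : (sys F E p hRS).IsFullyNormalized P₀)
    (hgood : SatCrit.LargerGood (sys F E p hRS) p P₀) {Q : Subgroup Ω}
    (hQ : (sys F E p hRS).IsConj P₀ Q) : SatCrit.Up (sys F E p hRS) Q P₀ := by
  haveI : Finite R := finite_of_le hRS
  set D := sys F E p hRS
  have hRp : IsPGroup p R := hS.to_le hRS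
  rcases hn.1.eq_or_lt with e | hlt
  · subst e
    obtain rfl := eq_top_of_isConj hQ
    exact SatCrit.Up.refl
  have hNlt : ∀ B, D.IsConj P₀ B → Nat.card P₀ < Nat.card (normalizerIn R B) := fun B hB => by
    haveI : Finite ↥(normalizerIn R B) := finite_of_le (S := R) inf_le_left
    rw [← isConj_card hB]
    refine card_lt_of_lt (lt_normalizerIn hRp (lt_of_le_of_ne (isConj_le_right hB) fun e => ?_))
    have h1 := isConj_card hB
    rw [e] at h1
    have h2 := card_lt_of_lt hlt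
    omega
  have hbig : ∀ Q₁ X g, D.IsConj P₀ Q₁ → Q₁ < X → X ≤ normalizerIn R Q₁ → IsMap D X g →
      SatCrit.Join D Q₁ (fimg g Q₁) := fun Q₁ X g h1 h2 h3 h4 =>
    SatCrit.join_step hRp hgood h1 h2 h3 h4
  obtain ⟨f, hf, hfQ⟩ := isConj_iff.1 (isConj_symm hQ)
  obtain ⟨U, hQU, g, hg, hgU⟩ : SatCrit.Join D Q P₀ :=
    hfQ ▸ gen_induct hS hRS hlt (fun Q f => SatCrit.Join D Q (fimg f Q))
      (fun Q f g h e => by rwa [← fimg_congr e])
      (fun Q f g hQ hf hg h1 h2 => by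
        rw [hf.fimg_comp]
        exact SatCrit.join_trans le_rfl (fun Q₁ R₁ g₁ a b c d _ => hbig Q₁ R₁ g₁ a b c d)
          (isConj_le_right hQ) hg.fimg_le_S (isConj_trans hQ hf.isConj)
          (hNlt _ (isConj_trans hQ hf.isConj)) h1 h2)
      (fun Q X f hQ h1 h2 h3 => hbig Q X f hQ h1 h2 h3)
      (fun Q _ α _ => by
        rw [fimg_autFun]
        exact ⟨Q, SatCrit.Up.refl, SatCrit.Up.refl⟩)
      (isMap_sys.1 hf) Q le_rfl hQ
  refine hQU.trans (isConj_le_right hQ) ?_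
  have hPN := le_normalizerIn (S := R) hlt.le
  have hU : D.IsConj P₀ U := hgU ▸ (hg.res hPN).isConj
  haveI : Finite ↥(normalizerIn R U) := finite_of_le (S := R) inf_le_left
  have heq : fimg g (normalizerIn R P₀) = normalizerIn R U :=
    Subgroup.eq_of_le_of_card_ge (hgU ▸ fimg_le fun x hx => hg.map_normalizerIn hPN hx hx.2)
      (hg.card_fimg.symm ▸ hn.2 U hU)
  obtain ⟨g', hg', hg1, -, -⟩ := hg.exists_inv
  rw [heq] at hg'
  refine ⟨g', hg', ?_⟩
  rw [← hgU, ← (hg.res hPN).fimg_comp]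
  exact (fimg_congr fun x hx => hg1 x (hPN hx)).trans (fimg_id P₀)

include hS hI in
/-- The stabilizer in a good overgroup restricts into `H0`. -/
theorem stab_res {R' Pd P₀ : Subgroup Ω}
    (hr : R' ≤ R) (hsy : SatCrit.SylowAt (sys F E p hRS) p R' Pd) (hPR : Pd ≤ R')
    {ψ : Ω → Ω} (hψ : IsMap (sys F E p hRS) (normalizerIn R Pd) ψ) (hψP : fimg ψ Pd = P₀)
    {ξ : MulAut R'} (hξ : ξ ∈ SatCrit.stabSub (sys F E p hRS) R' Pd) {ε : Ω → Ω}
    (hε : ∀ x ∈ Pd, ε (ψ x) = ψ (autFun ξ x)) : InH F E p R P₀ ε := by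
  haveI : Finite R := finite_of_le hRS
  have hRp : IsPGroup p R := hS.to_le hRS
  have hPdN : Pd ≤ normalizerIn R Pd := le_normalizerIn (hPR.trans hr)
  haveI := finite_of_le hr
  set St := SatCrit.stabSub (sys F E p hRS) R' Pd with hSt
  obtain ⟨ρ, hρ⟩ : ∃ ρ : St →* (sys F E p hRS).autGroup P₀, ∀ (ζ : St), ∀ x ∈ Pd,
      autFun (ρ ζ : MulAut P₀) (ψ x) = ψ (autFun (ζ : MulAut R') x) :=
    SatCrit.exists_rho hPR hr (hψ.res hPdN) hψP
  obtain ⟨W, hW⟩ : ∃ W : Sylow p St, (W : Subgroup St) = (autInducedBy R R').subgroupOf St :=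
    hsy.exists_sylow hRp hr
  let K : Subgroup St :=
    ((H0 F E p R P₀).subgroupOf ((sys F E p hRS).autGroup P₀)).comap ρ
  have hψm : IsMap F Pd ψ := (isMap_sys.1 (hψ.res hPdN)).isMap le_rfl hRS
  have mem_K : ∀ ζ : St, InH F E p R P₀ (autFun (ρ ζ : MulAut P₀)) → ζ ∈ K := by
    rintro ζ ⟨η, hη, he⟩
    have : (ρ ζ : MulAut P₀) = η := mulAut_ext he
    exact (show (ρ ζ : MulAut P₀) ∈ H0 F E p R P₀ from this ▸ hη)
  have hK : (W : Subgroup St) ⊔ pResidual p St ≤ K := by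
    refine sup_le (fun w hw => ?_) ((Subgroup.closure_le _).2 fun ζ hζ => ?_)
    · rw [hW] at hw
      obtain ⟨k, hk, hke⟩ := mem_autInducedBy.1 hw
      have hke : ∀ z : R', (((w : MulAut R') z : R') : Ω) = k * z * k⁻¹ := hke
      have hkN : k ∈ normalizerIn R Pd := SatCrit.mem_normalizerIn_of_stab hPR hk w.2.2 hke
      have hψk : ψ k ∈ normalizerIn R P₀ := hψP ▸ hψ.map_normalizerIn hPdN hkN hkN.2
      refine mem_K w ((InH.of_conj hψk.1 hψk.2).congr fun y hy => ?_)
      obtain ⟨x, hx, rfl⟩ := hψm.mem_fimg_iff.1 (hψP.ge hy)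
      rw [hρ w x hx, show autFun (w : MulAut R') x = (((w : MulAut R') ⟨x, hPR hx⟩ : R') : Ω) from
        autFun_coe _ ⟨x, hPR hx⟩, hke]
      show ψ (k * x * k⁻¹) = _
      rw [hψ.map_conj hkN (hPdN hx)]
    · have hζ' : (orderOf (ζ : MulAut R')).Coprime p := by
        rw [Subgroup.orderOf_coe]; exact hζ
      have hg : Gd F E p (ζ : MulAut R') := gd_of_sys hS hI hr ζ.2.1 hζ'
      obtain ⟨β, hβ, hβe⟩ := hg.exists_res hI hPR fun x hx => by
        rw [show autFun (ζ : MulAut R') x = (((ζ : MulAut R') ⟨x, hPR hx⟩ : R') : Ω) from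
          autFun_coe _ ⟨x, hPR hx⟩]
        exact (ζ.2.2 _).2 hx
      exact mem_K ζ (InH.of_gd hI hψm hψP hβ fun x hx => by rw [hρ ζ x hx, hβe x hx])
  have h1 : (⟨ξ, hξ⟩ : St) ∈ K := hK (by rw [Transfer.sylow_sup_pResidual]; exact mem_top _)
  refine ⟨(ρ ⟨ξ, hξ⟩ : MulAut P₀), h1, fun y hy => ?_⟩
  obtain ⟨x, hx, rfl⟩ := hψm.mem_fimg_iff.1 (hψP.ge hy)
  rw [hε x hx, hρ ⟨ξ, hξ⟩ x hx]

include hS hI in
/-- A map on a larger subgroup stabilizing `P₀` restricts into `H0`. -/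
theorem inH_of_larger {P₀ : Subgroup Ω} (hn : (sys F E p hRS).IsFullyNormalized P₀)
    (hgood : SatCrit.LargerGood (sys F E p hRS) p P₀) {X : Subgroup Ω} {f : Ω → Ω}
    (hf : IsMap (sys F E p hRS) X f) (hX : P₀ < X) (hXN : X ≤ normalizerIn R P₀)
    (hfP : fimg f P₀ = P₀) : InH F E p R P₀ f := by
  haveI : Finite R := finite_of_le hRS
  have hRp : IsPGroup p R := hS.to_le hRS
  have htr := fun Q (hQ : (sys F E p hRS).IsConj P₀ Q) => exists_up hS hRS hn hgood hQ
  induction hm : Nat.card R - Nat.card X using Nat.strong_induction_on generalizing X f with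
  | _ n ih =>
  set D := sys F E p hRS
  have hXR := hf.source_le
  haveI := finite_of_le hXR
  haveI : Finite ↥(normalizerIn R P₀) := finite_of_le (S := R) inf_le_left
  have hP₀c : D.IsConj P₀ P₀ := isConj_refl D hn.1
  obtain ⟨R', hXR', ha', hr'⟩ := hgood.get hP₀c hX hXR
  rcases hXN.eq_or_lt with e | hlt
  · -- the whole normalizer
    subst e
    obtain ⟨a, hma, haX, hsy⟩ := SatCrit.exists_good_map hRp ha' hr' hX.le le_rfl hXR'
    have hNN : normalizerIn (normalizerIn R P₀) (normalizerIn R P₀) = normalizerIn R P₀ :=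
      le_antisymm inf_le_left (le_inf le_rfl Subgroup.le_normalizer)
    rw [hNN] at hma
    set Pc := fimg a P₀
    have hPc : D.IsConj P₀ Pc := (hma.res hX.le).isConj
    haveI : Finite ↥(normalizerIn R Pc) := finite_of_le (S := R) inf_le_left
    have hR' : R' = normalizerIn R Pc := by
      rw [← haX]
      exact Subgroup.eq_of_le_of_card_ge (fimg_le fun x hx => hma.map_normalizerIn hX.le hx hx.2)
        (hma.card_fimg.symm ▸ hn.2 Pc hPc)
    obtain ⟨a', ha'm, ha1, ha2, -⟩ := hma.exists_inv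
    rw [haX] at ha'm ha2
    have hfN : ∀ x ∈ normalizerIn R P₀, f x ∈ normalizerIn R P₀ := fun x hx =>
      hfP ▸ hf.map_normalizerIn hX.le hx hx.2
    have hmid : IsMap D R' fun y => a (f (a' y)) :=
      (ha'm.comp hf fun y hy => (ha2 y hy).1).comp hma fun y hy => hfN _ (ha2 y hy).1
    haveI := finite_of_le hr'.1
    obtain ⟨χ, hχ, hχe⟩ := hmid.exists_aut (Subgroup.eq_of_le_of_card_ge
      (fimg_le fun y hy => haX ▸ apply_mem_fimg a (hfN _ (ha2 y hy).1)) hmid.card_fimg.ge)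
    have hPcR : Pc ≤ R' := haX ▸ fimg_mono a hX.le
    have hval : ∀ x ∈ P₀, autFun χ (a x) = a (f x) := fun x hx => by
      rw [hχe _ (hPcR (apply_mem_fimg a hx)), ha1 x (hX.le hx)]
    have hmv : SatCrit.Moves χ Pc Pc := by
      have : fimg (autFun χ) Pc = Pc := by
        rw [← (hma.res hX.le).fimg_comp, fimg_congr hval, (hf.res hX.le).fimg_comp, hfP]
      exact (congrArg (SatCrit.Moves χ Pc) this).mp (SatCrit.moves_fimg χ hPcR)
    refine stab_res hS hI hRS hr'.1 hsy hPcR (ψ := a') (hR' ▸ ha'm) ?_ ⟨hχ, hmv⟩ fun y hy => ?_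
    · rw [← (hma.res hX.le).fimg_comp]
      exact (fimg_congr fun x hx => ha1 x (hX.le hx)).trans (fimg_id P₀)
    · obtain ⟨x, hx, rfl⟩ := (hma.res hX.le).mem_fimg_iff.1 hy
      rw [ha1 x (hX.le hx), hval x hx, ha1 _ (hX.le (hfP ▸ apply_mem_fimg f hx))]
  have hfN : fimg f X ≤ normalizerIn R P₀ :=
    hfP ▸ fimg_le fun x hx => hf.map_normalizerIn hX.le hx (hXN hx).2
  have hlt' : fimg f X < normalizerIn R P₀ := lt_of_le_of_ne hfN fun e => by
    have h1 := hf.card_fimg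
    rw [e] at h1
    exact absurd h1 (card_lt_of_lt hlt).ne'
  obtain ⟨a, b, h, hma, hmb, haX, hbX, hsy, hh, hhP, hhR, ξ, hξ, hξe⟩ :=
    SatCrit.exists_split hRp hf hX.le hXN hXR' ha' hr'
  rw [hfP] at hmb hsy hhP hξ
  have ih' : ∀ Y g, IsMap D Y g → P₀ < Y → Y ≤ normalizerIn R P₀ → fimg g P₀ = P₀ →
      Nat.card X < Nat.card Y → InH F E p R P₀ g := fun Y g h1 h2 h3 h4 h5 => by
    have := Subgroup.card_le_of_le h1.source_le
    exact ih (Nat.card R - Nat.card Y) (by omega) h1 h2 h3 h4 rfl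
  set Na := normalizerIn (normalizerIn R P₀) X
  set Nb := normalizerIn (normalizerIn R P₀) (fimg f X)
  have hXa : X ≤ Na := le_inf hXN Subgroup.le_normalizer
  have hXb : fimg f X ≤ Nb := le_inf hfN Subgroup.le_normalizer
  have hca : Nat.card X < Nat.card Na := SatCrit.card_lt_chain hRp hlt
  have hcb : Nat.card X < Nat.card Nb := by
    rw [← hf.card_fimg]; exact SatCrit.card_lt_chain hRp hlt'
  have hP₀X' : P₀ ≤ fimg f X := hfP ▸ fimg_mono f hX.le
  set Pc := fimg a P₀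
  set Pd := fimg b P₀
  have hPc : D.IsConj P₀ Pc := (hma.res (hX.le.trans hXa)).isConj
  have hPd : D.IsConj P₀ Pd := (hmb.res (hP₀X'.trans hXb)).isConj
  obtain ⟨ψc, hψc, hψcP⟩ := htr Pc hPc
  obtain ⟨ψd, hψd, hψdP⟩ := htr Pd hPd
  have hNaPc : ∀ x ∈ Na, a x ∈ normalizerIn R Pc := fun x hx =>
    hma.map_normalizerIn (hX.le.trans hXa) hx hx.1.2
  have hNbPd : ∀ x ∈ Nb, b x ∈ normalizerIn R Pd := fun x hx =>
    hmb.map_normalizerIn (hP₀X'.trans hXb) hx hx.1.2
  haveI : Finite ↥Na := finite_of_le hma.source_le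
  haveI : Finite ↥Nb := finite_of_le hmb.source_le
  have hA : InH F E p R P₀ (fun x => ψc (a x)) := by
    refine ih' Na _ (hma.comp hψc hNaPc) (hX.trans_le hXa) inf_le_left ?_ hca
    rw [(hma.res (hX.le.trans hXa)).fimg_comp, hψcP]
  have hB : InH F E p R P₀ (fun x => ψd (b x)) := by
    refine ih' Nb _ (hmb.comp hψd hNbPd) (lt_of_le_of_ne (hP₀X'.trans hXb) fun e => ?_)
      inf_le_left ?_ hcb
    · rw [← e] at hcb
      exact absurd hcb (card_lt_of_lt hX).not_gt
    · rw [(hmb.res (hP₀X'.trans hXb)).fimg_comp, hψdP]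
  set Nc := normalizerIn (normalizerIn R Pc) R'
  have hXc : fimg a Na ≤ Nc := by
    have := SatCrit.fimg_chain_le hma hX.le hXN
    rw [haX] at this
    exact this
  have hPcR' : Pc ≤ R' := haX ▸ fimg_mono a hX.le
  have hPdR' : Pd ≤ R' := hbX ▸ fimg_mono b hP₀X'
  have hR'c : R' ≤ Nc := le_trans (haX ▸ fimg_mono a hXa) hXc
  haveI : Finite ↥Nc := finite_of_le hh.source_le
  have hcc : Nat.card X < Nat.card Nc := by
    have := Subgroup.card_le_of_le hXc
    rw [hma.card_fimg] at this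
    omega
  have hPcN : Pc ≤ Nc := hPcR'.trans hR'c
  have hNcPd : ∀ x ∈ Nc, h x ∈ normalizerIn R Pd := fun x hx =>
    hhP ▸ hh.map_normalizerIn hPcN hx hx.1.2
  have hNcle : Nc ≤ normalizerIn R Pc := inf_le_left
  obtain ⟨ψc', hψc', hψc1, hψc2, -⟩ := (hψc.res hNcle).exists_inv
  have hPcS : Pc ≤ normalizerIn R Pc := le_normalizerIn (isConj_le_right hPc)
  have hβ : InH F E p R P₀ (fun y => ψd (h (ψc' y))) := by
    refine ih' (fimg ψc Nc) _ ((hψc'.comp hh fun y hy => (hψc2 y hy).1).comp hψd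
      fun y hy => hNcPd _ (hψc2 y hy).1) ?_ ?_ ?_ ?_
    · refine lt_of_le_of_ne (hψcP ▸ fimg_mono ψc hPcN) fun e => ?_
      have h1 := (hψc.res hNcle).card_fimg
      rw [← e] at h1
      have h2 := card_lt_of_lt hX
      omega
    · exact hψcP ▸ fimg_le fun x hx => hψc.map_normalizerIn hPcS (hNcle hx) hx.1.2
    · conv_lhs => rw [← hψcP, ← (hψc.res hPcS).fimg_comp]
      rw [fimg_congr fun x hx => show ψd (h (ψc' (ψc x))) = ψd (h x) by rw [hψc1 x (hPcN hx)],
        (hh.res hPcN).fimg_comp, hhP, hψdP]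
    · rw [(hψc.res hNcle).card_fimg]
      exact hcc
  obtain ⟨ρ, hρ⟩ := SatCrit.exists_rho hPdR' hr'.1
    (hψd.res (le_normalizerIn (isConj_le_right hPd))) hψdP
  have hε : InH F E p R P₀ (autFun (ρ ⟨ξ⁻¹, inv_mem hξ⟩ : MulAut P₀)) :=
    stab_res hS hI hRS hr'.1 hsy hPdR' hψd hψdP (inv_mem hξ)
      fun x hx => hρ ⟨ξ⁻¹, inv_mem hξ⟩ x hx
  have hcm := ((hmb.res (hP₀X'.trans hXb)).comp
    (hψd.res (le_normalizerIn (isConj_le_right hPd))) fun x hx => apply_mem_fimg b hx)
  obtain ⟨binv, -, hb1, -, -⟩ := hcm.exists_inv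
  have hBinv : InH F E p R P₀ binv := hB.inv hb1
  refine (((hA.comp hβ).comp hε).comp hBinv).congr fun x hx => ?_
  have hfx : f x ∈ P₀ := hfP ▸ apply_mem_fimg f hx
  have hbfx : b (f x) ∈ Pd := apply_mem_fimg b hfx
  have hax : a x ∈ Pc := apply_mem_fimg a hx
  have h1 : autFun (ξ⁻¹ : MulAut R') (h (a x)) = b (f x) := by
    rw [← hξe x (hX.le hx), autFun_inv_apply ξ (hPdR' hbfx)]
  show f x = binv (autFun (ρ ⟨ξ⁻¹, inv_mem hξ⟩ : MulAut P₀) (ψd (h (ψc' (ψc (a x))))))
  rw [hψc1 _ (hPcN hax), hρ _ _ (hhP ▸ apply_mem_fimg h hax), h1]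
  exact (hb1 (f x) hfx).symm

include hS hI in
/-- The automizer of a fully normalized subgroup. -/
theorem autGroup_le_H0 {P₀ : Subgroup Ω} (hn : (sys F E p hRS).IsFullyNormalized P₀)
    (hgood : SatCrit.LargerGood (sys F E p hRS) p P₀) :
    (sys F E p hRS).autGroup P₀ ≤ H0 F E p R P₀ := by
  haveI : Finite R := finite_of_le hRS
  have hRp : IsPGroup p R := hS.to_le hRS
  intro α hα
  have hαm := isMap_sys.1 ((mem_autGroup hn.1).1 hα)
  suffices h : InH F E p R P₀ (autFun α) by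
    obtain ⟨η, hη, he⟩ := h
    exact (mulAut_ext he : α = η) ▸ hη
  rcases hn.1.eq_or_lt with e | hlt
  · subst e
    suffices h : ∀ {P : Subgroup Ω} {f : Ω → Ω}, Gen F E p P₀ P₀ P f → P = P₀ →
        InH F E p P₀ P₀ f from h hαm rfl
    intro P f h
    induction h with
    | conj hP hr he =>
      rintro rfl
      exact (InH.of_conj hr (Subgroup.le_normalizer hr)).congr he
    | @aut P W β f hW hc hβ hPW he =>
      rintro rfl
      obtain rfl := le_antisymm hW hPW
      exact ⟨β, Subgroup.mem_sup_left (Subgroup.subset_closure hβ), he⟩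
    | @comp P Q f g h hf hg hm he ih₁ ih₂ =>
      rintro rfl
      have h1 := ih₁ rfl
      obtain ⟨η, -, hηe⟩ := h1
      obtain rfl : Q = P := le_antisymm hg.source_le fun y hy => by
        have h2 := hm _ (autFun_mem η⁻¹ hy)
        rwa [hηe _ (autFun_mem _ hy), ← autFun_mul _ _ hy, mul_inv_cancel, autFun_one hy] at h2
      exact ((ih₁ rfl).comp (ih₂ rfl)).congr he
  set D := sys F E p hRS
  let G : Subgroup Ω → (Ω → Ω) → Prop := fun Q f => ∀ u v,
    IsMap D (normalizerIn R Q) u → fimg u Q = P₀ →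
    IsMap D (normalizerIn R (fimg f Q)) v → fimg v (fimg f Q) = P₀ →
    ∃ e, InH F E p R P₀ e ∧ ∀ x ∈ Q, v (f x) = e (u x)
  have hGbig : ∀ Q X f, D.IsConj P₀ Q → Q < X → X ≤ normalizerIn R Q → IsMap D X f → G Q f := by
    intro Q X f hQ hQX hXN hf u v hu huQ hv hvQ
    have hQN := le_normalizerIn (S := R) (isConj_le_right hQ)
    obtain ⟨u', hu', hu1, hu2, -⟩ := (hu.res hXN).exists_inv
    have hfN : ∀ x ∈ X, f x ∈ normalizerIn R (fimg f Q) := fun x hx =>
      hf.map_normalizerIn hQX.le hx (hXN hx).2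
    have hm : IsMap D (fimg u X) (fun y => v (f (u' y))) :=
      (hu'.comp hf fun y hy => (hu2 y hy).1).comp hv fun y hy => hfN _ (hu2 y hy).1
    refine ⟨fun y => v (f (u' y)), inH_of_larger hS hI hRS hn hgood hm ?_ ?_ ?_, fun x hx => ?_⟩
    · refine lt_of_le_of_ne (huQ ▸ fimg_mono u hQX.le) fun e => ?_
      haveI := finite_of_le hf.source_le
      have h1 := (hu.res hXN).card_fimg
      rw [← e, ← isConj_card hQ] at h1
      exact absurd h1 (card_lt_of_lt hQX).ne
    · exact huQ ▸ fimg_le fun x hx => hu.map_normalizerIn hQN (hXN hx) (hXN hx).2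
    · conv_lhs => rw [← huQ, ← (hu.res hQN).fimg_comp]
      rw [fimg_congr fun x hx => show v (f (u' (u x))) = v (f x) by rw [hu1 x (hQX.le hx)],
        (hf.res hQX.le).fimg_comp, hvQ]
    · show v (f x) = v (f (u' (u x)))
      rw [hu1 x (hQX.le hx)]
  have hG : G P₀ (autFun α) := gen_induct hS hRS hlt G
    (fun Q f g h e u v hu huQ hv hvQ => by
      rw [← fimg_congr e] at hv hvQ
      obtain ⟨e', he', he'e⟩ := h u v hu huQ hv hvQ
      exact ⟨e', he', fun x hx => by rw [← e x hx]; exact he'e x hx⟩)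
    (fun Q f g hQ hf hg h1 h2 u v hu huQ hv hvQ => by
      rw [hf.fimg_comp] at hv hvQ
      obtain ⟨w, hw, hwQ⟩ := exists_up hS hRS hn hgood (isConj_trans hQ hf.isConj)
      obtain ⟨e1, he1, he1e⟩ := h1 u w hu huQ hw hwQ
      obtain ⟨e2, he2, he2e⟩ := h2 w v hw hwQ hv hvQ
      refine ⟨_, he1.comp he2, fun x hx => ?_⟩
      show v (g (f x)) = e2 (e1 (u x))
      rw [he2e _ (apply_mem_fimg f hx), he1e x hx])
    hGbig
    (fun Q hQ β hβ u v hu huQ hv hvQ => by
      rw [fimg_autFun] at hv hvQ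
      have hQR := isConj_le_right hQ
      have hQlt : Q < R := lt_of_le_of_ne hQR fun e => by
        have h1 := isConj_card hQ
        rw [e] at h1
        have h2 := card_lt_of_lt hlt
        omega
      haveI : Finite ↥(normalizerIn R Q) := finite_of_le (S := R) inf_le_left
      obtain ⟨e1, he1, he1e⟩ := hGbig Q _ (fun x => x) hQ (lt_normalizerIn hRp hQlt) le_rfl
        (isMap_id D inf_le_left) u v hu huQ (by rwa [fimg_id]) (by rwa [fimg_id])
      have hum : IsMap F Q u :=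
        (isMap_sys.1 (hu.res (le_normalizerIn hQR))).isMap le_rfl hRS
      obtain ⟨b, hb, hb1, -, -⟩ := hum.exists_inv
      have h2 : InH F E p R P₀ (fun y => u (autFun β (b y))) :=
        InH.of_gd hI hum huQ hβ fun x hx => by rw [hb1 x hx]
      refine ⟨_, h2.comp he1, fun x hx => ?_⟩
      show v (autFun β x) = e1 (u (autFun β (b (u x))))
      rw [hb1 x hx, ← he1e _ (autFun_mem β hx)])
    hαm P₀ le_rfl (isConj_refl D hn.1)
  obtain ⟨e, he, hee⟩ := hG (fun x => x) (fun x => x) (isMap_id D inf_le_left) (fimg_id P₀)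
    (isMap_id D inf_le_left) (by rw [fimg_id, fimg_autFun])
  exact he.congr fun x hx => hee x hx

end Cfsg.Agent.Fus.ProdSub
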