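import Mathlib
import Cfsg.Agent.Lib.Fus.ProdSub.Automizer

/-!
Members of a class of the generated system with full normalizer in `T`.
-/

set_option autoImplicit false
set_option linter.style.haveILetI false
set_option linter.unusedSectionVars false

open scoped Classical

universe u

namespace Cfsg.Agent.Fus.ProdSub

open Subgroup FusionSystem

variable {Ω : Type u} [Group Ω] {S T R : Subgroup Ω} {F : FusionSystem S} {E : FusionSystem T}
  {p : ℕ} [Finite S] [Fact p.Prime] (hS : IsPGroup p S) (hF : F.IsSaturated p)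
  (hI : E.IsInvariantIn F) (hTR : T ≤ R) (hRS : R ≤ S)

include hS hF hI hTR in
/-- Some member of the class is carried onto a fully normalized subgroup by a map defined on its
join with `T`. -/
theorem exists_full {P : Subgroup Ω} (hP : P ≤ R) :
    ∃ P' P₁ β, (sys F E p hRS).IsConj P P' ∧ F.IsFullyNormalized P₁ ∧
      F.IsFullyNormalized (P₁ ⊓ T) ∧ IsMap F (P' ⊔ T) β ∧ fimg β P' = P₁ := by
  obtain ⟨P₁, hP₁, hn, hQn⟩ := exists_conj_fn hS hF hI.2.1 (hP.trans hRS)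
  obtain ⟨f, hf, rfl⟩ := isConj_iff.1 hP₁
  obtain ⟨e, β, he, hβ, hfe⟩ := exists_dec hS hF hI hf
  obtain ⟨-, he'⟩ := Gen.shrink hI he hTR P le_rfl hP
  refine ⟨fimg e P, _, β, (isMap_sys.2 (he'.mono bot_le)).isConj, hn, hQn, ?_, ?_⟩
  · rw [fimg_sup_eq (he.tmod hI).1]; exact hβ
  · rw [fimg_congr hfe, (he.isMap bot_le le_rfl).fimg_comp β]

omit [Fact p.Prime] in
include hI in
/-- The elements of `T` normalizing the image come from elements normalizing the subgroup. -/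
theorem exists_preimage_T {P' P₁ : Subgroup Ω} {β : Ω → Ω} (hβ : IsMap F (P' ⊔ T) β)
    (hP₁ : fimg β P' = P₁) {t : Ω} (ht : t ∈ normalizerIn T P₁) :
    ∃ t' ∈ normalizerIn T P', β t' = t := by
  have hT := hI.2.1
  have hT' : fimg β T = T := InvMap.fimg_top hT (hβ.res le_sup_right)
  obtain ⟨t', ht', rfl⟩ := (hβ.res le_sup_right).mem_fimg_iff.1 (hT'.ge ht.1)
  refine ⟨t', ⟨ht', ?_⟩, rfl⟩
  have ht'M : t' ∈ P' ⊔ T := Subgroup.mem_sup_right ht'
  obtain ⟨b, hb, hb1, hb2, -⟩ := hβ.exists_inv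
  have hle : P₁ ≤ fimg β (P' ⊔ T) := hP₁ ▸ fimg_mono β le_sup_left
  have hbP : fimg b P₁ = P' := by
    rw [← hP₁, ← (hβ.res le_sup_left).fimg_comp]
    exact (fimg_congr fun x hx => hb1 x (Subgroup.mem_sup_left hx)).trans (fimg_id P')
  have h1 := hb.map_normalizerIn hle (apply_mem_fimg β ht'M) ht.2
  rw [hbP, hb1 t' ht'M] at h1
  exact h1.2

include hS hF hI hTR in
/-- A fully normalized member with all transports has full normalizer in `T`. -/
theorem exists_chart_F {P₀ : Subgroup Ω} (hP₀ : P₀ ≤ R)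
    (htr : ∀ Q, (sys F E p hRS).IsConj P₀ Q → SatCrit.Up (sys F E p hRS) Q P₀) :
    ∃ P₁ v, F.IsFullyNormalized P₁ ∧ F.IsFullyNormalized (P₁ ⊓ T) ∧
      IsMap F (normalizerIn S P₀) v ∧ fimg v P₀ = P₁ ∧
      fimg v (normalizerIn T P₀) = normalizerIn T P₁ := by
  have hT := hI.2.1
  obtain ⟨P', P₁, β, hP', hn, hQn, hβ, hβP⟩ := exists_full hS hF hI hTR hRS hP₀
  obtain ⟨w, hw, hwP⟩ := htr P' hP'
  have hwm : IsMap F (normalizerIn R P') w := (isMap_sys.1 hw).isMap le_rfl hRS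
  have hP'R := isConj_le_right hP'
  obtain ⟨v, hv, hvP, hvN⟩ := exists_map_to_fullyNormalized hS hF hn
    (isConj_trans (mem_sys_conj hRS hP')
      (hβP ▸ (hβ.res le_sup_left).isConj : F.IsConj P' P₁))
  refine ⟨P₁, v, hn, hQn, hv, hvP, ?_⟩
  have hTN : ∀ Q : Subgroup Ω, normalizerIn T Q ≤ normalizerIn S Q := fun Q x hx =>
    ⟨hT.1 hx.1, hx.2⟩
  have hTR' : ∀ Q : Subgroup Ω, normalizerIn T Q ≤ normalizerIn R Q := fun Q x hx =>
    ⟨hTR hx.1, hx.2⟩
  haveI : Finite ↥(normalizerIn T P₁) := finite_of_le (S := S) (inf_le_left.trans hT.1)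
  haveI : Finite ↥(normalizerIn T P₀) := finite_of_le (S := S) (inf_le_left.trans hT.1)
  haveI : Finite ↥(normalizerIn T P') := finite_of_le (S := S) (inf_le_left.trans hT.1)
  refine Subgroup.eq_of_le_of_card_ge (fimg_le fun x hx =>
    ⟨StronglyClosed.apply_mem hT (hv.res (hTN P₀)) inf_le_left hx, (hvN x (hTN P₀ hx)).2⟩) ?_
  rw [(hv.res (hTN P₀)).card_fimg]
  have h2 : Nat.card ↥(normalizerIn T P') ≤ Nat.card ↥(normalizerIn T P₀) := by
    rw [← (hwm.res (hTR' P')).card_fimg]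
    refine Subgroup.card_le_of_le (fimg_le fun x hx => ?_)
    refine ⟨StronglyClosed.apply_mem hT (hwm.res (hTR' P')) inf_le_left hx, ?_⟩
    exact (hwP ▸ hw.map_normalizerIn (le_normalizerIn hP'R) (hTR' P' hx) hx.2).2
  refine le_trans ?_ h2
  have hle : normalizerIn T P' ≤ P' ⊔ T := inf_le_left.trans le_sup_right
  rw [← (hβ.res hle).card_fimg]
  haveI : Finite ↥(fimg β (normalizerIn T P')) := finite_of_le (S := S) (hβ.res hle).fimg_le_S
  exact Subgroup.card_le_of_le fun t ht => by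
    obtain ⟨t', ht', rfl⟩ := exists_preimage_T hI hβ hβP ht
    exact apply_mem_fimg β ht'

include hS hF hI hTR in
/-- A centric subgroup with noncentric trace has a conjugate with a noninner `p`-core automorphism
induced by `R`. -/
theorem exists_star {P : Subgroup Ω} (hP : (sys F E p hRS).IsCentric P)
    (hPc : ¬ E.IsCentric (P ⊓ T)) :
    ∃ Q, (sys F E p hRS).IsConj P Q ∧
      ¬ (autInducedBy R Q ⊓ (pCore p ↥((sys F E p hRS).autGroup Q)).map
        ((sys F E p hRS).autGroup Q).subtype ≤ Inn Q) := by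
  have hT := hI.2.1
  haveI : Finite R := finite_of_le hRS
  obtain ⟨P', P₁, β, hP', hn, hQn, hβ, hβP⟩ := exists_full hS hF hI hTR hRS hP.1
  have hconj : F.IsConj P P₁ :=
    isConj_trans (mem_sys_conj hRS hP') (hβP ▸ (hβ.res le_sup_left).isConj)
  have hP₁c : ¬ E.IsCentric (P₁ ⊓ T) := fun h => hPc (by
    obtain ⟨g, hg, hgP⟩ := isConj_iff.1 (isConj_symm hconj)
    rw [← hgP, ← InvClass.fimg_inf hT hg]
    exact InvClass.centric_transport hI h (hg.res inf_le_left))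
  obtain ⟨t₀, ht₀, ht₀P⟩ := exists_cent_normalizer hS hT hn.1
    (exists_cent_not_le hS hF hI inf_le_right hQn hP₁c)
  obtain ⟨t, ht, rfl⟩ := exists_preimage_T hI hβ hβP ht₀.1
  have hP'R := isConj_le_right hP'
  have hP'S := hP'R.trans hRS
  have htR : t ∈ R := hTR ht.1
  have htP : t ∉ P' := fun h => ht₀P (hβP ▸ apply_mem_fimg β h)
  have htM : t ∈ P' ⊔ T := Subgroup.mem_sup_right ht.1
  have htQ : ∀ x ∈ P' ⊓ T, t * x * t⁻¹ = x := fun x hx => by
    have hxM : x ∈ P' ⊔ T := Subgroup.mem_sup_left hx.1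
    refine hβ.injOn (Subgroup.mul_mem _ (Subgroup.mul_mem _ htM hxM) (Subgroup.inv_mem _ htM)) hxM ?_
    have hβx : β x ∈ P₁ ⊓ T := ⟨hβP ▸ apply_mem_fimg β hx.1,
      StronglyClosed.apply_mem hT (hβ.res le_sup_right) le_rfl hx.2⟩
    rw [hβ.map_conj htM hxM, ← (mem_centralizerIn.1 ht₀).2 _ hβx, mul_inv_cancel_right]
  refine ⟨P', hP', fun hle => htP ?_⟩
  set D := sys F E p hRS
  haveI := Kst_normal (F := F) (hT := hT) hP'S
  let ι : D.autGroup P' →* F.autGroup P' := Subgroup.inclusion (autGroup_mono sys_subsystem P')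
  let c : D.autGroup P' :=
    ⟨P'.normalizerMonoidHom ⟨t, ht.2⟩, nmh_mem D hP'R htR ht.2⟩
  have hc : c ∈ (Kst F T P' hT).comap ι := by
    rw [Subgroup.mem_comap, mem_Kst_iff]
    refine ⟨fun x hx => ?_, fun x hx => ?_⟩
    · show autFun (P'.normalizerMonoidHom ⟨t, ht.2⟩) x = x
      rw [autFun_nmh ht.2 hx.1, htQ x hx]
    · show x⁻¹ * autFun (P'.normalizerMonoidHom ⟨t, ht.2⟩) x ∈ T
      rw [autFun_nmh ht.2 hx, show x⁻¹ * (t * x * t⁻¹) = x⁻¹ * t * x * t⁻¹ by group]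
      exact T.mul_mem (conj_inv_mem hT (hP'S hx) ht.1) (T.inv_mem ht.1)
  obtain ⟨q, hq⟩ := hle ⟨InvMap.mem_autInducedBy_of_mem htR ht.2,
    c, Grp.le_pCore (inferInstance : ((Kst F T P' hT).comap ι).Normal)
      ((Kst_isPGroup hS hP'S).comap_of_injective ι (Subgroup.inclusion_injective _)) hc, rfl⟩
  have hcent : (q : Ω)⁻¹ * t ∈ centralizerIn R P' :=
    mem_centralizerIn.2 ⟨R.mul_mem (R.inv_mem (hP'R q.2)) htR, fun x hx => by
      have h1 : (q : Ω) * x * (q : Ω)⁻¹ = t * x * t⁻¹ :=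
        congrArg (fun a : MulAut P' => ((a ⟨x, hx⟩ : P') : Ω)) hq
      calc x * ((q : Ω)⁻¹ * t) = (q : Ω)⁻¹ * ((q : Ω) * x * (q : Ω)⁻¹) * t := by group
        _ = (q : Ω)⁻¹ * (t * x * t⁻¹) * t := by rw [h1]
        _ = (q : Ω)⁻¹ * t * x := by group⟩
  have := P'.mul_mem q.2 (hP.2 P' hP' hcent)
  rwa [mul_inv_cancel_left] at this

end Cfsg.Agent.Fus.ProdSub
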