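import Mathlib
import Cfsg.Agent.Lib.Fus.ProdSub.Full

/-!
A fully normalized subgroup with centric trace is fully automized and receptive in the generated
system, given saturation above it.
-/

set_option autoImplicit false
set_option linter.style.haveILetI false
set_option linter.unusedSectionVars false

open scoped Classical

universe u

namespace Cfsg.Agent.Fus.ProdSub

open Subgroup FusionSystem

variable {Ω : Type u} [Group Ω] {S T R : Subgroup Ω} {F : FusionSystem S} {E : FusionSystem T}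
  {p : ℕ} [Finite S] [Fact p.Prime]

/-- Maps carry the good automorphisms to good ones. -/
theorem clGd_congr (hI : E.IsInvariantIn F) {W V : Subgroup Ω} {v : Ω → Ω} (hv : IsMap F W v)
    (hvW : fimg v W = V) (e : W ≃* V) (he : ∀ x : W, (e x : Ω) = v x) :
    (clGd F E p W).map (MulAut.congr e).toMonoidHom ≤ clGd F E p V := by
  rw [clGd, MonoidHom.map_closure]
  refine Subgroup.closure_mono ?_
  rintro _ ⟨a, ha, rfl⟩
  exact Gd.congr_map hI hv hvW e he ha

theorem clGd_conj (hI : E.IsInvariantIn F) {P : Subgroup Ω} (hP : P ≤ S) {g a : MulAut P}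
    (hg : g ∈ F.autGroup P) (ha : a ∈ clGd F E p P) : g * a * g⁻¹ ∈ clGd F E p P := by
  have h := clGd_congr hI ((mem_autGroup hP).1 hg) (fimg_autFun g) g
    (fun x => (autFun_coe g x).symm) ⟨a, ha, rfl⟩
  have e : MulAut.congr g a = g * a * g⁻¹ := MulEquiv.ext fun x => rfl
  exact e ▸ h

variable (hS : IsPGroup p S) (hF : F.IsSaturated p) (hE : E.IsNormalIn F p) (hTR : T ≤ R)
  (hRS : R ≤ S)

include hS hF hE hTR in
theorem fullyAutomized_sys {P₀ : Subgroup Ω} (hn : (sys F E p hRS).IsFullyNormalized P₀)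
    (hgood : SatCrit.LargerGood (sys F E p hRS) p P₀) (hc : E.IsCentric (P₀ ⊓ T)) :
    (sys F E p hRS).IsFullyAutomized p P₀ := by
  have hI : E.IsInvariantIn F := hE.1.2.2
  have hT := hI.2.1
  haveI : Finite R := finite_of_le hRS
  set D := sys F E p hRS
  have hP₀S := hn.1.trans hRS
  haveI := finite_of_le hP₀S
  obtain ⟨P₁, v, hn₁, hQn₁, hv, hvP, hvT⟩ := exists_chart_F hS hF hI hTR hRS hn.1
    fun Q hQ => exists_up hS hRS hn hgood hQ
  have hPN := le_normalizerIn (S := S) hP₀S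
  have hvm := hv.res hPN
  obtain ⟨e, he, heA⟩ := exists_mulEquiv hvm hvP
  obtain ⟨b, hb, hb1, hb2, hb3⟩ := hvm.exists_inv
  rw [hvP] at hb hb3
  have hes : ∀ y : P₁, (e.symm y : Ω) = b y := fun y => by
    conv_rhs => rw [show (y : Ω) = v (e.symm y) by rw [← he, MulEquiv.apply_symm_apply]]
    rw [hb1 _ (e.symm y).2]
  have hc₁ : E.IsCentric (P₁ ⊓ T) := by
    rw [← hvP, ← InvClass.fimg_inf hT hvm]
    exact InvClass.centric_transport hI hc (hvm.res inf_le_left)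
  have hP₁a := fullyAutomized_of_fullyNormalized hS hF hn₁
  obtain ⟨hP₁S, W, hW⟩ := hP₁a
  haveI := finite_of_le hP₁S
  haveI : ((clGd F E p P₁).subgroupOf (F.autGroup P₁)).Normal :=
    ⟨fun a ha g => clGd_conj hI hP₁S g.2 ha⟩
  have hsyl := isSylowOf_inf_normal W ((clGd F E p P₁).subgroupOf (F.autGroup P₁))
  have hTR' : autInducedBy T P₀ ≤ autInducedBy R P₀ := autInducedBy_mono hTR P₀
  obtain ⟨-, hsy⟩ : IsSylowOf p (autInducedBy R P₀) (D.autGroup P₀) :=
    IsSylowOf.of_card_le (autInducedBy_le_autGroup D hn.1)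
      (isPGroup_autInducedBy (hS.to_le hRS) P₀) fun A hA hAp hle a ha => by
    have hnorm : autInducedBy R P₀ ≤ Subgroup.normalizer (clGd F E p P₀ : Set (MulAut P₀)) :=
      fun g hg => by
        have hgF : g ∈ F.autGroup P₀ :=
          autInducedBy_le_autGroup F hP₀S (autInducedBy_mono hRS P₀ hg)
        exact mem_normalizer_of_forall (fun x hx => clGd_conj hI hP₀S hgF hx) fun x hx => by
          simpa using clGd_conj hI hP₀S (inv_mem hgF) hx
    obtain ⟨r, hr, w, hw, rfl⟩ := (InvMap.mem_sup_normalized hnorm).1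
      (autGroup_le_H0 hS hI hRS hn hgood (hA ha))
    refine mul_mem (hTR' ?_) hw
    have hrA : r ∈ A := by
      have := mul_mem ha (inv_mem (hle hw))
      rwa [mul_inv_cancel_right] at this
    -- move to the fully normalized conjugate
    let φ : MulAut P₀ →* MulAut P₁ := (MulAut.congr e).toMonoidHom
    let V : Subgroup (F.autGroup P₁) :=
      ((A ⊓ clGd F E p P₀).map φ).subgroupOf (F.autGroup P₁)
    have hVle : (A ⊓ clGd F E p P₀).map φ ≤ F.autGroup P₁ :=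
      ((Subgroup.map_mono inf_le_right).trans (clGd_congr hI hvm hvP e he)).trans (clGd_le hP₁S)
    have hVp : IsPGroup p V := ((hAp.to_le inf_le_left).map φ).comap_subtype
    have hV : V ≤ (clGd F E p P₁).subgroupOf (F.autGroup P₁) := Subgroup.comap_mono
      ((Subgroup.map_mono inf_le_right).trans (clGd_congr hI hvm hvP e he))
    have hWT : ∀ x ∈ (W : Subgroup (F.autGroup P₁)) ⊓
        (clGd F E p P₁).subgroupOf (F.autGroup P₁), ∃ t ∈ normalizerIn T P₀,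
          ∀ y : P₁, (((x : MulAut P₁) y : P₁) : Ω) = v t * y * (v t)⁻¹ := fun x hx => by
      rw [hW] at hx
      obtain ⟨s, hs, hse⟩ := mem_autInducedBy.1
        (clGd_inf_le hS hF hE ⟨hP₁S, W, hW⟩ hQn₁ hc₁ ⟨hx.2, hx.1⟩)
      obtain ⟨t, ht, rfl⟩ := (hv.res (fun z hz => ⟨hT.1 hz.1, hz.2⟩ :
        normalizerIn T P₀ ≤ normalizerIn S P₀)).mem_fimg_iff.1
          (hvT.ge ⟨hs, mem_normalizer_of_conj_aut hse⟩)
      exact ⟨t, ht, hse⟩
    have hval : ∀ (x : MulAut P₁) (t : Ω) (htn : t ∈ normalizerIn T P₀),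
        (∀ y : P₁, ((x y : P₁) : Ω) = v t * y * (v t)⁻¹) →
        φ (P₀.normalizerMonoidHom ⟨t, htn.2⟩) = x := fun x t htn hx => by
      refine mulAut_ext fun y hy => ?_
      obtain ⟨z, hz, rfl⟩ := hvm.mem_fimg_iff.1 (hvP.ge hy)
      show autFun (MulAut.congr e _) (v z) = _
      rw [InvMap.autFun_congr e he _ hz, autFun_nmh htn.2 hz,
        hv.map_conj ⟨hT.1 htn.1, htn.2⟩ (hPN hz)]
      exact ((autFun_coe x ⟨_, hy⟩).trans (hx ⟨_, hy⟩)).symm
    have hWV : (W : Subgroup (F.autGroup P₁)) ⊓ (clGd F E p P₁).subgroupOf (F.autGroup P₁) ≤ V :=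
      fun x hx => by
      obtain ⟨t, ht, hte⟩ := hWT x hx
      refine Subgroup.mem_subgroupOf.2 ⟨_, ⟨hle (hTR' (InvMap.mem_autInducedBy_of_mem ht.1 ht.2)),
        ?_⟩, hval _ t ht hte⟩
      have h1 := clGd_congr hI hb hb3 e.symm hes
        ⟨_, hx.2, rfl⟩
      rwa [show ((F.autGroup P₁).subtype x) = φ (P₀.normalizerMonoidHom ⟨t, ht.2⟩) from
        (hval _ t ht hte).symm, show (MulAut.congr e.symm).toMonoidHom
          (φ (P₀.normalizerMonoidHom ⟨t, ht.2⟩)) = P₀.normalizerMonoidHom ⟨t, ht.2⟩ from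
        (MulAut.congr e).symm_apply_apply _] at h1
    have heq : V = (W : Subgroup (F.autGroup P₁)) ⊓
        (clGd F E p P₁).subgroupOf (F.autGroup P₁) :=
      (Subgroup.eq_of_le_of_card_ge hWV (hsyl.card_le hVp hV)).symm
    have hrV : φ r ∈ (A ⊓ clGd F E p P₀).map φ := ⟨r, ⟨hrA, hr⟩, rfl⟩
    obtain ⟨t, ht, hte⟩ := hWT ⟨φ r, hVle hrV⟩ (heq ▸ Subgroup.mem_subgroupOf.2 hrV)
    rw [(MulAut.congr e).injective ((hval _ t ht hte).symm : φ r = _)]
    exact InvMap.mem_autInducedBy_of_mem ht.1 ht.2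
  exact ⟨hn.1, hsy⟩

variable (F E p) in
/-- The automorphism extends over the preimage in `R` of a group of automorphisms. -/
def ExtR {P₀ : Subgroup Ω} (U : Subgroup ((sys F E p hRS).autGroup P₀))
    (η : (sys F E p hRS).autGroup P₀) : Prop :=
  ∃ G, IsMap (sys F E p hRS) (SatCrit.preM R P₀ (U.map (Subgroup.subtype _))) G ∧
    ∀ x ∈ P₀, G x = autFun (η : MulAut P₀) x

section Ext

variable {P₀ : Subgroup Ω}


theorem mem_pre_iff {U : Subgroup ((sys F E p hRS).autGroup P₀)} {y : Ω} :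
    y ∈ SatCrit.preM R P₀ (U.map (Subgroup.subtype _)) ↔
      y ∈ R ∧ ∃ u ∈ U, ∀ x : P₀, (((u : MulAut P₀) x : P₀) : Ω) = y * x * y⁻¹ := by
  constructor
  · rintro ⟨hy, -, ⟨u, hu, rfl⟩, he⟩; exact ⟨hy, u, hu, he⟩
  · rintro ⟨hy, u, hu, he⟩; exact ⟨hy, _, ⟨u, hu, rfl⟩, he⟩

theorem ExtR.res {U U' : Subgroup ((sys F E p hRS).autGroup P₀)}
    {η : (sys F E p hRS).autGroup P₀} (h : ExtR F E p hRS U η) (hle : U' ≤ U) :
    ExtR F E p hRS U' η := by
  obtain ⟨G, hG, he⟩ := h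
  refine ⟨G, hG.res fun y hy => ?_, he⟩
  obtain ⟨hy, u, hu, hue⟩ := (mem_pre_iff hRS).1 hy
  exact (mem_pre_iff hRS).2 ⟨hy, u, hle hu, hue⟩

theorem le_pre {U : Subgroup ((sys F E p hRS).autGroup P₀)} (hP : P₀ ≤ R)
    (hU : (Inn P₀).subgroupOf _ ≤ U) : P₀ ≤ SatCrit.preM R P₀ (U.map (Subgroup.subtype _)) :=
  fun x hx => (mem_pre_iff hRS).2 ⟨hP hx,
    ⟨MulAut.conj (⟨x, hx⟩ : P₀), inn_le_autGroup (sys F E p hRS) hP ⟨_, rfl⟩⟩,
    hU (Subgroup.mem_subgroupOf.2 ⟨⟨x, hx⟩, rfl⟩), fun _ => rfl⟩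

theorem ExtR.conj_apply {U : Subgroup ((sys F E p hRS).autGroup P₀)} (hP : P₀ ≤ R)
    (hU : (Inn P₀).subgroupOf _ ≤ U) {η : (sys F E p hRS).autGroup P₀} {G : Ω → Ω}
    (hG : IsMap (sys F E p hRS) (SatCrit.preM R P₀ (U.map (Subgroup.subtype _))) G)
    (he : ∀ x ∈ P₀, G x = autFun (η : MulAut P₀) x) {y : Ω}
    (hy : y ∈ SatCrit.preM R P₀ (U.map (Subgroup.subtype _)))
    {u : (sys F E p hRS).autGroup P₀}
    (hu : ∀ x : P₀, (((u : MulAut P₀) x : P₀) : Ω) = y * x * y⁻¹) :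
    ∀ x : P₀, ((((η * u * η⁻¹ : (sys F E p hRS).autGroup P₀) : MulAut P₀) x : P₀) : Ω) =
      G y * x * (G y)⁻¹ := fun x => by
  have hle := le_pre hRS hP hU
  set z := (η : MulAut P₀)⁻¹ x
  have hz : G z = x := by
    rw [he z z.2, autFun_coe, MulAut.apply_inv_self]
  show (((η : MulAut P₀) ((u : MulAut P₀) z) : P₀) : Ω) = _
  rw [← autFun_coe, ← he _ ((u : MulAut P₀) z).2, hu z, hG.map_conj hy (hle z.2), hz]

theorem ExtR.mul {U U' : Subgroup ((sys F E p hRS).autGroup P₀)} (hP : P₀ ≤ R)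
    (hU : (Inn P₀).subgroupOf _ ≤ U) {η μ : (sys F E p hRS).autGroup P₀}
    (hη : ExtR F E p hRS U η) (hμ : ExtR F E p hRS U' μ) (hUU : ∀ u ∈ U, η * u * η⁻¹ ∈ U') :
    ExtR F E p hRS U (μ * η) := by
  obtain ⟨G, hG, he⟩ := hη
  obtain ⟨H, hH, hHe⟩ := hμ
  refine ⟨fun y => H (G y), hG.comp hH fun y hy => ?_, fun x hx => ?_⟩
  · obtain ⟨-, u, hu, hue⟩ := (mem_pre_iff hRS).1 hy
    exact (mem_pre_iff hRS).2
      ⟨hG.apply_mem hy, _, hUU u hu, ExtR.conj_apply hRS hP hU hG he hy hue⟩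
  · show H (G x) = _
    rw [he x hx, hHe _ (autFun_mem _ hx), Subgroup.coe_mul, autFun_mul _ _ hx]

theorem ExtR.inv {U U' : Subgroup ((sys F E p hRS).autGroup P₀)} (hP : P₀ ≤ R)
    (hU : (Inn P₀).subgroupOf _ ≤ U) (hUR : U ≤ (autInducedBy R P₀).subgroupOf _)
    {η : (sys F E p hRS).autGroup P₀} (hη : ExtR F E p hRS U η)
    (hUU : ∀ u ∈ U', η⁻¹ * u * η ∈ U) : ExtR F E p hRS U' η⁻¹ := by
  obtain ⟨G, hG, he⟩ := hη
  obtain ⟨b, hb, hb1, -, -⟩ := hG.exists_inv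
  haveI : Finite R := finite_of_le hRS
  have hle := le_pre hRS hP hU
  set C := centralizerIn R P₀ with hC
  have hCle : C ≤ SatCrit.preM R P₀ (U.map (Subgroup.subtype _)) := fun c hc =>
    (mem_pre_iff hRS).2 ⟨hc.1, 1, U.one_mem, fun x => by
      show (x : Ω) = c * x * c⁻¹
      rw [← (mem_centralizerIn.1 hc).2 x x.2, mul_inv_cancel_right]⟩
  have hGP : fimg G P₀ = P₀ := (fimg_congr he).trans (fimg_autFun _)
  have hGC : fimg G C = C := by
    haveI : Finite C := finite_of_le (S := R) inf_le_left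
    refine Subgroup.eq_of_le_of_card_ge (fimg_le fun c hc => ?_) (hG.res hCle).card_fimg.ge
    have := hG.map_centralizerIn hle (hCle hc) hc.2
    rwa [hGP] at this
  have hsurj : ∀ y' ∈ SatCrit.preM R P₀ (U'.map (Subgroup.subtype _)),
      y' ∈ fimg G (SatCrit.preM R P₀ (U.map (Subgroup.subtype _))) := fun y' hy' => by
    obtain ⟨hy'R, u', hu', hue'⟩ := (mem_pre_iff hRS).1 hy'
    obtain ⟨y, hy, hye⟩ := mem_autInducedBy.1 (hUR (hUU u' hu'))
    have hyp : y ∈ SatCrit.preM R P₀ (U.map (Subgroup.subtype _)) :=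
      (mem_pre_iff hRS).2 ⟨hy, _, hUU u' hu', hye⟩
    have h1 := ExtR.conj_apply hRS hP hU hG he hyp (u := η⁻¹ * u' * η) hye
    rw [show η * (η⁻¹ * u' * η) * η⁻¹ = u' by group] at h1
    have hc : (G y)⁻¹ * y' ∈ C :=
      mem_centralizerIn.2 ⟨R.mul_mem (R.inv_mem (hG.apply_mem hyp)) hy'R, fun x hx => by
        have h2 := (h1 ⟨x, hx⟩).symm.trans (hue' ⟨x, hx⟩)
        calc x * ((G y)⁻¹ * y') = (G y)⁻¹ * (G y * x * (G y)⁻¹) * y' := by group
          _ = (G y)⁻¹ * (y' * x * y'⁻¹) * y' := by rw [h2]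
          _ = (G y)⁻¹ * y' * x := by group⟩
    rw [show y' = G y * ((G y)⁻¹ * y') by group]
    exact Subgroup.mul_mem _ (apply_mem_fimg G hyp) (fimg_mono G hCle (hGC.ge hc))
  refine ⟨b, hb.res hsurj, fun x hx => ?_⟩
  have hz := autFun_mem (η : MulAut P₀)⁻¹ hx
  have h3 : G (autFun (η : MulAut P₀)⁻¹ x) = x := by
    rw [he _ hz, ← autFun_mul _ _ hx, mul_inv_cancel, autFun_one hx]
  show b x = autFun (η : MulAut P₀)⁻¹ x
  conv_lhs => rw [← h3]
  exact hb1 _ (hle hz)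

theorem ExtR.of_conj (U : Subgroup ((sys F E p hRS).autGroup P₀))
    {η : (sys F E p hRS).autGroup P₀} (h : (η : MulAut P₀) ∈ autInducedBy R P₀) :
    ExtR F E p hRS U η := by
  obtain ⟨r, hr, he⟩ := mem_autInducedBy.1 h
  exact ⟨_, isMap_conj (sys F E p hRS) (fun y hy => ((mem_pre_iff hRS).1 hy).1) hr,
    fun x hx => ((autFun_coe _ ⟨x, hx⟩).trans (he ⟨x, hx⟩)).symm⟩

include hS hF hE hTR in
/-- Normalizing automorphisms of order prime to `p` extend. -/
theorem ExtR.of_coprime (hn : (sys F E p hRS).IsFullyNormalized P₀)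
    (hgood : SatCrit.LargerGood (sys F E p hRS) p P₀) (hc : E.IsCentric (P₀ ⊓ T))
    {U : Subgroup ((sys F E p hRS).autGroup P₀)} (hU : (Inn P₀).subgroupOf _ ≤ U)
    (hUR : U ≤ (autInducedBy R P₀).subgroupOf _) {η : (sys F E p hRS).autGroup P₀}
    (hη : ∀ u ∈ U, η * u * η⁻¹ ∈ U) (ho : (orderOf η).Coprime p) :
    ExtR F E p hRS U η := by
  have hI : E.IsInvariantIn F := hE.1.2.2
  have hT := hI.2.1
  haveI : Finite R := finite_of_le hRS
  obtain ⟨P₁, v, hn₁, hQn₁, hv, hvP, hvT⟩ := exists_chart_F hS hF hI hTR hRS hn.1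
    fun Q hQ => exists_up hS hRS hn hgood hQ
  have hP₀S := hn.1.trans hRS
  have hPN := le_normalizerIn (S := S) hP₀S
  have hvm := hv.res hPN
  obtain ⟨e, he, -⟩ := exists_mulEquiv hvm hvP
  have hb0 : Gd F E p (η : MulAut P₀) :=
    gd_of_sys hS hI hn.1 η.2 (by rwa [Subgroup.orderOf_coe])
  set m := MulAut.congr e (η : MulAut P₀)
  have hm : Gd F E p m := Gd.congr_map hI hvm hvP e he hb0
  have hc₁ : E.IsCentric (P₁ ⊓ T) := by
    rw [← hvP, ← InvClass.fimg_inf hT hvm]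
    exact InvClass.centric_transport hI hc (hvm.res inf_le_left)
  set Y := SatCrit.preM R P₀ (U.map (Subgroup.subtype _)) with hY
  have hYN : Y ≤ normalizerIn S P₀ := fun y hy =>
    ⟨hRS ((SatCrit.preM_le_normalizerIn _) hy).1, ((SatCrit.preM_le_normalizerIn _) hy).2⟩
  have hP₀Y : P₀ ≤ Y := le_pre hRS hn.1 hU
  have hvY : fimg v Y ≤ normalizerIn S P₁ := fimg_le fun y hy =>
    hvP ▸ hv.map_normalizerIn hPN (hYN hy) (hYN hy).2
  obtain ⟨N, hYN', g, hg, hgm⟩ := exists_ext_gd hS hF hE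
    (fullyAutomized_of_fullyNormalized hS hF hn₁) hQn₁ hc₁ hm (Y := fimg v Y)
    (hvP ▸ fimg_mono v hP₀Y) hvY (fun w hw => by
      obtain ⟨y, hy, rfl⟩ := (hv.res hYN).mem_fimg_iff.1 hw
      obtain ⟨-, u, hu, hue⟩ := (mem_pre_iff hRS).1 hy
      obtain ⟨y', hy', hye'⟩ : ∃ y' ∈ R, ∀ z : P₀,
          (((η * u * η⁻¹ : (sys F E p hRS).autGroup P₀) : MulAut P₀) z : Ω) = y' * z * y'⁻¹ :=
        mem_autInducedBy.1 (hUR (hη u hu))
      have hy'Y : y' ∈ Y := (mem_pre_iff hRS).2 ⟨hy', _, hη u hu, hye'⟩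
      refine ⟨v y', apply_mem_fimg v hy'Y, fun z hz => ?_⟩
      obtain ⟨x, hx, rfl⟩ := hvm.mem_fimg_iff.1 (hvP.ge hz)
      have hxy : y * x * y⁻¹ ∈ P₀ := (Subgroup.mem_normalizer_iff.1 (hYN hy).2 x).1 hx
      rw [← hv.map_conj (hYN hy) (hPN hx), InvMap.autFun_congr e he _ hxy,
        InvMap.autFun_congr e he _ hx, ← hv.map_conj (hYN hy'Y) (hPN (autFun_mem _ hx))]
      congr 1
      have h1 := hye' ((η : MulAut P₀) ⟨x, hx⟩)
      rw [show (((η * u * η⁻¹ : (sys F E p hRS).autGroup P₀) : MulAut P₀))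
        ((η : MulAut P₀) ⟨x, hx⟩) = (η : MulAut P₀) ((u : MulAut P₀) ⟨x, hx⟩) by simp,
        ← autFun_coe (η : MulAut P₀) ((u : MulAut P₀) ⟨x, hx⟩), hue] at h1
      rw [show autFun (η : MulAut P₀) x = (((η : MulAut P₀) ⟨x, hx⟩ : P₀) : Ω) from
        autFun_coe _ ⟨x, hx⟩]
      exact h1)
  have hNR : normalizerIn R P₀ ≤ normalizerIn S P₀ := fun x hx => ⟨hRS hx.1, hx.2⟩
  set M := N ⊓ fimg v (normalizerIn R P₀) with hM
  have hP₁N : P₁ ≤ N := hvP ▸ (fimg_mono v hP₀Y).trans hYN'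
  have hgP : fimg (autFun g) P₁ = P₁ := (fimg_congr hgm).trans (fimg_autFun m)
  have hMn : ∀ w ∈ M, w ∈ Subgroup.normalizer (P₁ : Set Ω) := fun w hw => by
    obtain ⟨y, hy, rfl⟩ := (hv.res hNR).mem_fimg_iff.1 hw.2
    exact (hvP ▸ hv.map_normalizerIn hPN (hNR hy) (hNR hy).2).2
  have hinv : ∀ w ∈ M, autFun g w ∈ M := fun w hw => by
    refine ⟨autFun_mem g hw.1, ?_⟩
    have h1 := hg.isMap.map_normalizerIn hP₁N hw.1 (hMn w hw)
    rw [hgP] at h1
    have h2 : w⁻¹ * autFun g w ∈ normalizerIn T P₁ :=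
      ⟨hg.tmod w hw.1, Subgroup.mul_mem _ (Subgroup.inv_mem _ (hMn w hw)) h1.2⟩
    rw [← hvT] at h2
    have h3 := Subgroup.mul_mem _ hw.2
      (fimg_mono v (fun x hx => ⟨hTR hx.1, hx.2⟩ : normalizerIn T P₀ ≤ normalizerIn R P₀) h2)
    rwa [mul_inv_cancel_left] at h3
  obtain ⟨g', hg', hg'e⟩ := hg.exists_res hI inf_le_left hinv
  obtain ⟨b, hb, hb1, hb2, -⟩ := (hv.res hNR).exists_inv
  have hbM := hb.res (inf_le_right : M ≤ _)
  obtain ⟨e', he', -⟩ := exists_mulEquiv hbM rfl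
  have hα := Gd.congr_map hI hbM rfl e' he' hg'
  have hY'R : fimg b M ≤ R := fimg_le fun w hw => ((hb2 w hw.2).1).1
  have hYM : Y ≤ fimg b M := fun y hy => by
    have hyR := SatCrit.preM_le_normalizerIn _ hy
    rw [← hb1 y hyR]
    exact apply_mem_fimg b ⟨hYN' (apply_mem_fimg v hy), apply_mem_fimg v hyR⟩
  refine ⟨autFun (MulAut.congr e' g'), isMap_sys.2 (.aut hY'R
    (centric_mono hc (inf_le_inf_right T (hP₀Y.trans hYM)) inf_le_right) hα hYM
      fun _ _ => rfl), fun x hx => ?_⟩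
  have hxR : x ∈ normalizerIn R P₀ := SatCrit.preM_le_normalizerIn _ (hP₀Y hx)
  have hxM : v x ∈ M := ⟨hP₁N (hvP ▸ apply_mem_fimg v hx), apply_mem_fimg v hxR⟩
  conv_lhs => rw [← hb1 x hxR]
  rw [InvMap.autFun_congr e' he' _ hxM, hg'e _ hxM, hgm _ (hvP ▸ apply_mem_fimg v hx),
    InvMap.autFun_congr e he _ hx]
  exact hb1 _ (SatCrit.preM_le_normalizerIn _ (hP₀Y (autFun_mem _ hx)))

include hS hF hE hTR in
/-- Every automorphism carrying a subgroup of the induced ones to such extends. -/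
theorem ExtR.all (hn : (sys F E p hRS).IsFullyNormalized P₀)
    (hgood : SatCrit.LargerGood (sys F E p hRS) p P₀) (hc : E.IsCentric (P₀ ⊓ T))
    {W : Sylow p ((sys F E p hRS).autGroup P₀)}
    (hW : (W : Subgroup ((sys F E p hRS).autGroup P₀)) = (autInducedBy R P₀).subgroupOf _)
    {U : Subgroup ((sys F E p hRS).autGroup P₀)} (hU : (Inn P₀).subgroupOf _ ≤ U)
    (hUW : U ≤ (W : Subgroup ((sys F E p hRS).autGroup P₀))) {η : (sys F E p hRS).autGroup P₀}
    (hη : ∀ u ∈ U, η * u * η⁻¹ ∈ (W : Subgroup ((sys F E p hRS).autGroup P₀))) : ExtR F E p hRS U η := by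
  haveI : Finite R := finite_of_le hRS
  haveI := finite_of_le hn.1
  induction hm : Nat.card (W : Subgroup ((sys F E p hRS).autGroup P₀)) - Nat.card U using Nat.strong_induction_on
    generalizing U η with
  | _ k ih =>
  haveI := inn_subgroupOf_normal (sys F E p hRS) P₀
  have hInnN : ∀ (h : (sys F E p hRS).autGroup P₀) {V : Subgroup ((sys F E p hRS).autGroup P₀)},
      (Inn P₀).subgroupOf _ ≤ V →
      (Inn P₀).subgroupOf _ ≤ V.map (MulAut.conj h).toMonoidHom := fun h V hV x hx =>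
    ⟨h⁻¹ * x * h⁻¹⁻¹, hV (Subgroup.Normal.conj_mem inferInstance x hx h⁻¹), by simp [mul_assoc]⟩
  have hnorm : ∀ {V : Subgroup ((sys F E p hRS).autGroup P₀)}, (Inn P₀).subgroupOf _ ≤ V →
      V ≤ (W : Subgroup ((sys F E p hRS).autGroup P₀)) →
      IsSylowOf p ((W : Subgroup ((sys F E p hRS).autGroup P₀)) ⊓ Subgroup.normalizer (V : Set _))
        (Subgroup.normalizer (V : Set _)) →
      ∀ n ∈ Subgroup.normalizer (V : Set _), ExtR F E p hRS V n := by
    intro V hV hVW hsy n hnV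
    set N := Subgroup.normalizer (V : Set ((sys F E p hRS).autGroup P₀))
    have hVR : V ≤ (autInducedBy R P₀).subgroupOf _ := hVW.trans hW.le
    let K : Subgroup N :=
      { carrier := {x | ExtR F E p hRS V (x : (sys F E p hRS).autGroup P₀)}
        one_mem' := ExtR.of_conj hRS V (one_mem _)
        mul_mem' := fun {a b} ha hb => ExtR.mul hRS hn.1 hV hb ha fun u hu =>
          (Subgroup.mem_normalizer_iff.1 b.2 u).1 hu
        inv_mem' := fun {a} ha => ExtR.inv hRS hn.1 hV hVR ha fun u hu =>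
          (Subgroup.mem_normalizer_iff''.1 a.2 u).1 hu }
    obtain ⟨-, Q, hQ⟩ := hsy
    have hK : (Q : Subgroup N) ⊔ pResidual p N ≤ K := by
      refine sup_le (fun x hx => ?_) ((Subgroup.closure_le _).2 fun x hx => ?_)
      · rw [hQ] at hx
        exact ExtR.of_conj hRS V (Subgroup.mem_subgroupOf.1 (hW.le hx.1))
      · exact ExtR.of_coprime hS hF hE hTR hRS hn hgood hc hV hVR
          (fun u hu => (Subgroup.mem_normalizer_iff.1 x.2 u).1 hu)
          (by rw [Subgroup.orderOf_coe]; exact hx)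
    exact hK (show (⟨n, hnV⟩ : N) ∈ (Q : Subgroup N) ⊔ pResidual p N by
      rw [Transfer.sylow_sup_pResidual]; exact mem_top _)
  rcases hUW.eq_or_lt with e | hlt
  · subst e
    refine hnorm hU le_rfl ?_ η (mem_normalizer_of_forall hη fun u hu => ?_)
    · rw [inf_eq_left.2 Subgroup.le_normalizer]
      exact IsSylowOf.of_card_le Subgroup.le_normalizer W.2 fun A _ hAp hle =>
        (W.is_maximal' hAp hle).le
    · have e1 : (W : Subgroup ((sys F E p hRS).autGroup P₀)).map (MulAut.conj η).toMonoidHom = (W : Subgroup ((sys F E p hRS).autGroup P₀)) :=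
        Subgroup.eq_of_le_of_card_ge (by rintro _ ⟨x, hx, rfl⟩; exact hη x hx)
          (Subgroup.card_map_of_injective (MulAut.conj η).injective).ge
      obtain ⟨x, hx, rfl⟩ := e1.ge hu
      have e2 : η⁻¹ * (MulAut.conj η).toMonoidHom x * η = x := by simp [mul_assoc]
      exact e2.symm ▸ hx
  -- subgroups with larger normalizer
  have ih' : ∀ {V : Subgroup ((sys F E p hRS).autGroup P₀)}
      {μ : (sys F E p hRS).autGroup P₀}, (Inn P₀).subgroupOf _ ≤ V → V < (W : Subgroup ((sys F E p hRS).autGroup P₀)) →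
      Nat.card V = Nat.card U →
      (∀ x ∈ (W : Subgroup ((sys F E p hRS).autGroup P₀)) ⊓ Subgroup.normalizer (V : Set _),
        μ * x * μ⁻¹ ∈ (W : Subgroup ((sys F E p hRS).autGroup P₀))) → ExtR F E p hRS V μ := by
    intro V μ hV hVlt hcard hμ
    have h1 : V < normalizerIn (W : Subgroup ((sys F E p hRS).autGroup P₀)) V := lt_normalizerIn W.2 hVlt
    have h2 : Nat.card V < Nat.card ↥(normalizerIn (W : Subgroup ((sys F E p hRS).autGroup P₀)) V) := card_lt_of_lt h1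
    have h3 : Nat.card ↥(normalizerIn (W : Subgroup ((sys F E p hRS).autGroup P₀)) V) ≤ Nat.card (W : Subgroup ((sys F E p hRS).autGroup P₀)) :=
      Subgroup.card_le_of_le inf_le_left
    exact (ih (Nat.card (W : Subgroup ((sys F E p hRS).autGroup P₀)) - Nat.card ↥(normalizerIn (W : Subgroup ((sys F E p hRS).autGroup P₀)) V)) (by omega)
      (hV.trans h1.le) inf_le_left hμ rfl).res hRS h1.le
  set U' := U.map (MulAut.conj η).toMonoidHom with hU'
  have hU'W : U' ≤ (W : Subgroup ((sys F E p hRS).autGroup P₀)) := by rintro _ ⟨u, hu, rfl⟩; exact hη u hu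
  have hcU' : Nat.card U' = Nat.card U :=
    Subgroup.card_map_of_injective (MulAut.conj η).injective
  obtain ⟨h, hh, hhN, hsy₁⟩ := InvMap.exists_conj_normalizer_sylow W hUW
  obtain ⟨h', hh', hh'N, hsy₂⟩ := InvMap.exists_conj_normalizer_sylow W hU'W
  set U₁ := U.map (MulAut.conj h).toMonoidHom
  set U₂ := U'.map (MulAut.conj h').toMonoidHom
  have hcU₁ : Nat.card U₁ = Nat.card U :=
    Subgroup.card_map_of_injective (MulAut.conj h).injective
  have hU₁W : U₁ ≤ (W : Subgroup ((sys F E p hRS).autGroup P₀)) := by rintro _ ⟨u, hu, rfl⟩; exact hh u hu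
  have hU₂W : U₂ ≤ (W : Subgroup ((sys F E p hRS).autGroup P₀)) := by rintro _ ⟨u, hu, rfl⟩; exact hh' u hu
  have hWU : ∀ V : Subgroup ((sys F E p hRS).autGroup P₀), V ≤ (W : Subgroup ((sys F E p hRS).autGroup P₀)) →
      Nat.card V = Nat.card U → V < (W : Subgroup ((sys F E p hRS).autGroup P₀)) := fun V hV hcard =>
    lt_of_le_of_ne hV fun e => by
      have := card_lt_of_lt hlt
      rw [← hcard, e] at this
      exact lt_irrefl _ this
  set μ := h' * η * h⁻¹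
  have hμ : U₁.map (MulAut.conj μ).toMonoidHom = U₂ := by
    simp only [U₁, U₂, hU', Subgroup.map_map]
    congr 1
    ext x
    simp [μ, mul_assoc]
  have hμN : ((W : Subgroup ((sys F E p hRS).autGroup P₀)) ⊓ Subgroup.normalizer (U₁ : Set _)).map
      (MulAut.conj μ).toMonoidHom ≤ Subgroup.normalizer (U₂ : Set _) := by
    refine (Subgroup.map_mono inf_le_right).trans ?_
    rw [Subgroup.map_normalizer_eq_of_bijective U₁ (MulAut.conj μ).bijective, hμ]
  obtain ⟨n, hnN, hnle⟩ := hsy₂.exists_conj_le ((W.2.to_le inf_le_left).map _) hμN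
  have d₁ : ExtR F E p hRS U h :=
    ih' hU hlt rfl hhN
  have d₂ : ExtR F E p hRS U₁ (n * μ) := by
    refine ih' (hInnN h hU) (hWU _ hU₁W hcU₁) hcU₁ fun x hx => ?_
    have h1 := (hnle ⟨_, ⟨x, hx, rfl⟩, rfl⟩).1
    have e2 : (MulAut.conj n).toMonoidHom ((MulAut.conj μ).toMonoidHom x) =
        n * μ * x * (n * μ)⁻¹ := by simp [mul_assoc]
    exact e2 ▸ h1
  have d₃ : ExtR F E p hRS U₂ n⁻¹ :=
    hnorm (hInnN h' (hInnN η hU)) hU₂W hsy₂ n⁻¹ (Subgroup.inv_mem _ hnN)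
  have d₄ : ExtR F E p hRS U₂ h'⁻¹ := by
    refine ExtR.inv hRS hn.1 (hInnN η hU) (hU'W.trans hW.le)
      (ih' (hInnN η hU) (hWU _ hU'W hcU') hcU' hh'N) ?_
    rintro _ ⟨u, hu, rfl⟩
    have e2 : h'⁻¹ * (MulAut.conj h').toMonoidHom u * h' = u := by simp [mul_assoc]
    exact e2.symm ▸ hu
  have d₅ : ExtR F E p hRS U₁ μ := by
    have := ExtR.mul hRS hn.1 (hInnN h hU) d₂ d₃ fun u hu => by
      have h1 : μ * u * μ⁻¹ ∈ U₂ := hμ.le ⟨u, hu, rfl⟩
      have h2 := (Subgroup.mem_normalizer_iff.1 hnN _).1 h1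
      simpa [mul_assoc] using h2
    rwa [inv_mul_cancel_left] at this
  have d₆ := ExtR.mul hRS hn.1 hU d₁
    (ExtR.mul hRS hn.1 (hInnN h hU) d₅ d₄ fun u hu => hμ.le ⟨u, hu, rfl⟩)
    fun u hu => ⟨u, hu, rfl⟩
  rwa [show h'⁻¹ * μ * h = η by simp [μ, mul_assoc]] at d₆

include hS hF hE hTR in
theorem receptive_sys (hn : (sys F E p hRS).IsFullyNormalized P₀)
    (hgood : SatCrit.LargerGood (sys F E p hRS) p P₀) (hc : E.IsCentric (P₀ ⊓ T)) :
    (sys F E p hRS).IsReceptive P₀ := by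
  obtain ⟨-, W, hW⟩ := fullyAutomized_sys hS hF hE hTR hRS hn hgood hc
  haveI := finite_of_le (hn.1.trans hRS)
  refine receptive_of hn.1 fun Q f hf hfQ N hQN hN => ?_
  have hQR := hf.source_le
  obtain ⟨u, hu, huQ⟩ := exists_up hS hRS hn hgood (isConj_symm (hfQ ▸ hf.isConj))
  have hQn := le_normalizerIn (S := R) hQR
  have hNle : N ≤ normalizerIn R Q := fun g hg => ⟨((hN g).1 hg).1, ((hN g).1 hg).2.1⟩
  obtain ⟨u', hu', hu1, hu2, -⟩ := (hu.res hQn).exists_inv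
  rw [huQ] at hu' hu2
  have hm : IsMap (sys F E p hRS) P₀ fun y => f (u' y) := hu'.comp hf fun y hy => (hu2 y hy).1
  obtain ⟨η, hη, hηe⟩ := hm.exists_aut (Subgroup.eq_of_le_of_card_ge
    (fimg_le fun y hy => hfQ ▸ apply_mem_fimg f (hu2 y hy).1) hm.card_fimg.ge)
  have hηu : ∀ x ∈ Q, autFun η (u x) = f x := fun x hx => by
    rw [hηe _ (huQ ▸ apply_mem_fimg u hx), hu1 x hx]
  set Y := fimg u N
  have hY : Y ≤ normalizerIn R P₀ := fimg_le fun g hg =>
    huQ ▸ hu.map_normalizerIn hQn (hNle hg) (hNle hg).2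
  have hP₀Y : P₀ ≤ Y := huQ ▸ fimg_mono u hQN
  obtain ⟨G, hG, hGe⟩ := ExtR.all hS hF hE hTR hRS hn hgood hc hW
    (U := (autInducedBy Y P₀).subgroupOf _) (η := ⟨η, hη⟩)
    (fun x hx => by
      obtain ⟨q, hq⟩ := hx
      exact mem_autInducedBy.2 ⟨q, hP₀Y q.2, fun z =>
        (congrArg (fun a : MulAut P₀ => ((a z : P₀) : Ω)) hq.symm).trans rfl⟩)
    ((Subgroup.comap_mono (autInducedBy_mono (hY.trans inf_le_left) P₀)).trans hW.ge)
    (fun c hc' => by
      obtain ⟨y, hy, hye⟩ := mem_autInducedBy.1 hc'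
      obtain ⟨g, hg, rfl⟩ := (hu.res hNle).mem_fimg_iff.1 hy
      obtain ⟨-, hgn, h, hh, hhe⟩ := (hN g).1 hg
      rw [hW]
      refine mem_autInducedBy.2 ⟨h, hh, fun z => ?_⟩
      obtain ⟨w, rfl⟩ := η.surjective z
      obtain ⟨x, hx, hxe⟩ := (hu.res hQn).mem_fimg_iff.1 (huQ.ge w.2)
      have hgx := (Subgroup.mem_normalizer_iff.1 hgn x).1 hx
      show (((η * (c : MulAut P₀) * η⁻¹) (η w) : P₀) : Ω) = h * (η w : Ω) * h⁻¹
      rw [MulAut.mul_apply, MulAut.mul_apply, MulAut.inv_apply_self, ← autFun_coe η,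
        ← autFun_coe η w, show (((c : MulAut P₀) w : P₀) : Ω) = u g * w * (u g)⁻¹ from hye w,
        ← hxe, ← hu.map_conj (hNle hg) (hQn hx), hηu _ hgx, hηu x hx]
      exact hhe x hx)
  refine ⟨fun g => G (u g), (hu.res hNle).comp hG fun g hg => ?_, fun x hx => ?_⟩
  · have hy := hY (apply_mem_fimg u hg)
    exact (mem_pre_iff hRS).2 ⟨hy.1,
      ⟨P₀.normalizerMonoidHom ⟨u g, hy.2⟩, nmh_mem (sys F E p hRS) hn.1 hy.1 hy.2⟩,
      InvMap.mem_autInducedBy_of_mem (apply_mem_fimg u hg) hy.2, fun _ => rfl⟩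
  · show G (u x) = f x
    rw [hGe _ (huQ ▸ apply_mem_fimg u hx)]
    exact hηu x hx

end Ext

include hS hF hE hTR in
/-- The generated system is saturated. -/
theorem sys_saturated : (sys F E p hRS).IsSaturated p := by
  have hI : E.IsInvariantIn F := hE.1.2.2
  have hT := hI.2.1
  haveI : Finite R := finite_of_le hRS
  have hℋ : ∀ P : Subgroup Ω, P ≤ R ∧ E.IsCentric (P ⊓ T) → ∀ Q,
      (sys F E p hRS).IsConj P Q → Q ≤ R ∧ E.IsCentric (Q ⊓ T) := fun P hP Q hQ => by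
    refine ⟨isConj_le_right hQ, ?_⟩
    obtain ⟨g, hg, rfl⟩ := isConj_iff.1 (mem_sys_conj hRS hQ)
    rw [← InvClass.fimg_inf hT hg]
    exact InvClass.centric_transport hI hP.2 (hg.res inf_le_left)
  refine SatCrit.isSaturated_of_family (hS.to_le hRS) {P | P ≤ R ∧ E.IsCentric (P ⊓ T)}
    hℋ ?_ ?_ ?_
  · intro P hP
    induction hm : Nat.card R - Nat.card P using Nat.strong_induction_on generalizing P with
    | _ k ih =>
    obtain ⟨P₀, hP₀, hn⟩ := exists_fullyNormalized (sys F E p hRS) hP.1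
    have hc : E.IsCentric (P₀ ⊓ T) := (hℋ P hP P₀ hP₀).2
    have hgood : SatCrit.LargerGood (sys F E p hRS) p P₀ := fun Q X hQ hQX hX => by
      have hXm : X ≤ R ∧ E.IsCentric (X ⊓ T) := ⟨hX,
        centric_mono (hℋ P hP Q (isConj_trans hP₀ hQ)).2 (inf_le_inf_right T hQX.le) inf_le_right⟩
      haveI := finite_of_le hX
      have h1 := card_lt_of_lt hQX
      rw [isConj_card (isConj_trans hP₀ hQ)] at h1
      have h2 := Subgroup.card_le_of_le hX
      exact ih (Nat.card R - Nat.card X) (by omega) X hXm rfl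
    exact ⟨P₀, hP₀, fullyAutomized_sys hS hF hE hTR hRS hn hgood hc,
      receptive_sys hS hF hE hTR hRS hn hgood hc⟩
  · intro D' hD' P φ hφ
    suffices h : ∀ {P : Subgroup Ω} {f : Ω → Ω}, Gen F E p R R P f → IsMap D' P f from
      mem_hom_iff.2 (h hφ)
    intro P f h
    induction h with
    | conj hP hr he =>
      exact (isMap_conj D' hP hr).congr fun x hx => (he x hx).symm
    | @aut P W α f hW hc hα hPW he =>
      obtain ⟨ψ, hψ, hψe⟩ := isMap_sys.2
        (Gen.aut (C := R) (R := R) (F := F) hW hc hα le_rfl fun _ _ => rfl)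
      exact ((show IsMap D' W (autFun α) from ⟨ψ, hD' W ⟨hW, hc⟩ hψ, hψe⟩).res hPW).congr
        fun x hx => (he x hx).symm
    | comp _ _ hm he ih₁ ih₂ => exact (ih₁.comp ih₂ hm).congr fun x hx => (he x hx).symm
  · intro P hPc hP
    exact exists_star hS hF hI hTR hRS hPc fun h => hP ⟨hPc.1, h⟩

end Cfsg.Agent.Fus.ProdSub
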