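import Mathlib
import Cfsg.Agent.Lib.Fus.ProdSub.Lift
import Cfsg.Agent.Lib.Fus.PPowerNormal
import Cfsg.Agent.Lib.Fus.CentralizerNormalExt

/-!
Comparison of saturated systems with a common normal subsystem of `p`-power index.
-/

set_option autoImplicit false
set_option linter.style.haveILetI false
set_option linter.unusedSectionVars false

open scoped Classical

universe u

namespace Cfsg.Agent.Fus.ProdSub

open Subgroup FusionSystem

variable {Ω : Type u} [Group Ω] {p : ℕ} [Fact p.Prime]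

/-- A saturated system is contained in another as soon as the automorphisms of order prime to `p` of
its centric radical subgroups and of the whole group are. -/
theorem le_of_centric_coprime {U V : Subgroup Ω} [Finite U] (hUV : U ≤ V) (hU : IsPGroup p U)
    {A : FusionSystem U} (hA : A.IsSaturated p) {B : FusionSystem V}
    (h : ∀ W, A.IsCentric W → A.IsFullyNormalized W → (W = U ∨ A.IsRadical p W) →
      ∀ α ∈ A.autGroup W, (orderOf α).Coprime p → IsMap B W (autFun α)) :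
    A.IsSubsystemOf B := by
  have key : ∀ W, A.IsCentric W → A.IsFullyNormalized W → (W = U ∨ A.IsRadical p W) →
      ∀ α ∈ A.autGroup W, IsMap B W (autFun α) := by
    intro W hc hn hr α hα
    have hWV : W ≤ V := hn.1.trans hUV
    obtain ⟨g, hg, ρ, hρ, e⟩ := aut_decomp (fullyAutomized_of_fullyNormalized hU hA hn) ⟨α, hα⟩
    have hle : (pResidual p (A.autGroup W)).map (A.autGroup W).subtype ≤ B.autGroup W := by
      rw [pResidual, MonoidHom.map_closure, Subgroup.closure_le]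
      rintro _ ⟨a, ha, rfl⟩
      exact (mem_autGroup hWV).2 (h W hc hn hr a a.2 (by rw [Subgroup.orderOf_coe]; exact ha))
    exact (((mem_autGroup hWV).1 (hle ⟨ρ, hρ, rfl⟩)).comp
      (isMap_conj B hWV (hUV hg)) fun x hx => autFun_mem _ hx).congr fun x hx => (e x hx).symm
  intro P φ hφ
  refine mem_hom_iff.2 (alperin hU hA (fun Q f => IsMap B Q f) (fun _ _ _ hf he => hf.congr he)
    (fun _ _ _ _ _ _ hmem hf hg => hf.comp hg hmem) (fun _ _ _ _ hle hf => hf.res hle) ?_ ?_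
    (mem_hom_iff.1 hφ))
  · refine key U (centric_self A) ⟨le_rfl, fun Q hQ => ?_⟩ (Or.inl rfl)
    rw [eq_top_of_isConj hQ]
  · exact fun Q hQ => key Q hQ.1 hQ.2.1 (Or.inr (radical_of_essential hU hQ))

theorem centric_inf {U X : Subgroup Ω} [Finite U] (hU : IsPGroup p U) {A : FusionSystem U}
    {E₁ : FusionSystem X} (hA : A.IsSaturated p) (hE₁ : E₁.IsNormalIn A p) {W : Subgroup Ω}
    (hc : A.IsCentric W) (hr : W = U ∨ A.IsRadical p W) : E₁.IsCentric (W ⊓ X) := by
  rcases hr with rfl | hr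
  · haveI : Finite X := finite_of_le hE₁.1.2.2.2.1.1
    rw [inf_eq_right.2 hE₁.1.2.2.2.1.1]
    exact centric_self E₁
  · exact CentNormal.centric_inf_of_radical hU hA hE₁.1.2.2 hc hr

theorem normal_of_pPower {U X : Subgroup Ω} [Finite U] (hU : IsPGroup p U) {A : FusionSystem U}
    {E₁ : FusionSystem X} (hA : A.IsSaturated p) (hXU : X ≤ U)
    (hX : ∀ s ∈ U, ∀ x ∈ X, s * x * s⁻¹ ∈ X) (hE₁ : E₁.IsSaturated p)
    (hi : E₁.HasPPowerIndexIn A p) : E₁.IsNormalIn A p :=
  isNormalIn_of_pPowerIndex hU hA hXU ⟨fun n hn g => hX g g.2 n hn⟩ hi.2.1 hE₁ hi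

theorem tmod_of_coprime {U X : Subgroup Ω} {A : FusionSystem U}
    (hX : A.hyperfocalSubgroup p ≤ X) {W : Subgroup Ω} (hW : W ≤ U) {α : MulAut W}
    (hα : α ∈ A.autGroup W) (ho : (orderOf α).Coprime p) : TMod X W (autFun α) := fun x hx =>
  hX (hyperfocal_mem (α := ⟨α, hα⟩) hW (Transfer.mem_pResidual_of_coprime
    (by rw [← Subgroup.orderOf_coe]; exact ho)) hx)

theorem mem_of_coprime {U X : Subgroup Ω} {A : FusionSystem U} {E₁ : FusionSystem X}
    (hi : E₁.HasPPowerIndexIn A p) {W : Subgroup Ω} (hWX : W ≤ X) {α : MulAut W}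
    (hα : α ∈ A.autGroup W) (ho : (orderOf α).Coprime p) : α ∈ E₁.autGroup W :=
  hi.2.2 W hWX ⟨⟨α, hα⟩, Transfer.mem_pResidual_of_coprime
    (by rw [← Subgroup.orderOf_coe]; exact ho), rfl⟩

theorem trace_of_coprime {U X : Subgroup Ω} [Finite U] {A : FusionSystem U} {E₁ : FusionSystem X}
    (hX : A.StronglyClosed X) (hi : E₁.HasPPowerIndexIn A p) {W : Subgroup Ω} (hW : W ≤ U)
    {α : MulAut W} (hα : α ∈ A.autGroup W) (ho : (orderOf α).Coprime p) :
    IsMap E₁ (W ⊓ X) (autFun α) := by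
  obtain ⟨β, hβ, hβe, hβo⟩ := exists_res_aut ((mem_autGroup hW).1 hα)
    (inf_le_left : W ⊓ X ≤ W) fun x hx => ⟨autFun_mem α hx.1,
      StronglyClosed.apply_mem hX (((mem_autGroup hW).1 hα).res inf_le_left) inf_le_right hx⟩
  exact ((mem_autGroup inf_le_right).1
    (mem_of_coprime hi inf_le_right hβ (ho.coprime_dvd_left hβo))).congr hβe

theorem hasPPowerIndexIn_of_coprime {U X : Subgroup Ω} {A : FusionSystem U}
    {E₁ : FusionSystem X} (hle : E₁.IsSubsystemOf A) (hX : A.hyperfocalSubgroup p ≤ X)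
    (h : ∀ P ≤ X, ∀ α ∈ A.autGroup P, (orderOf α).Coprime p → α ∈ E₁.autGroup P) :
    E₁.HasPPowerIndexIn A p := by
  refine ⟨hle, hX, fun P hP => ?_⟩
  rw [pResidual, MonoidHom.map_closure, Subgroup.closure_le]
  rintro _ ⟨a, ha, rfl⟩
  exact h P hP a a.2 (by rw [Subgroup.orderOf_coe]; exact ha)

/-- A conjugate fully normalized with fully normalized trace. -/
theorem exists_conj_fn_sys {X U : Subgroup Ω} [Finite U] (hU : IsPGroup p U) {B : FusionSystem U}
    (hB : B.IsSaturated p) (hX : B.StronglyClosed X) {W : Subgroup Ω} (hW : W ≤ U) :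
    ∃ P₀, B.IsConj W P₀ ∧ B.IsFullyNormalized P₀ ∧ B.IsFullyNormalized (P₀ ⊓ X) := by
  obtain ⟨P₁, hP₁, hP₁n⟩ := exists_fullyNormalized B hW
  obtain ⟨Q', hQ', hQ'n⟩ := exists_fullyNormalized B
    (inf_le_left.trans hP₁n.1 : P₁ ⊓ X ≤ U)
  obtain ⟨h, hh, hhQ, -⟩ := exists_map_to_fullyNormalized hU hB hQ'n hQ'
  have hN : normalizerIn U P₁ ≤ normalizerIn U (P₁ ⊓ X) := normalizerIn_le_inf hX P₁
  have hPN := le_normalizerIn (S := U) hP₁n.1
  have hhP := hh.res (hPN.trans hN)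
  refine ⟨fimg h P₁, isConj_trans hP₁ hhP.isConj, ⟨hhP.fimg_le_S, fun R hR => ?_⟩,
    by rw [← InvClass.fimg_inf hX hhP, hhQ]; exact hQ'n⟩
  haveI : Finite ↥(normalizerIn U (fimg h P₁)) := finite_of_le (S := U) inf_le_left
  refine (hP₁n.2 R (isConj_trans hhP.isConj hR)).trans ?_
  rw [← (hh.res hN).card_fimg]
  exact Subgroup.card_le_of_le (fimg_le fun g hg => (hh.res hN).map_normalizerIn hPN hg hg.2)

/-- A member of the class with fully normalized trace, and the lift of an automorphism there. -/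
theorem exists_moved_lift {S X U : Subgroup Ω} [Finite U] (hU : IsPGroup p U)
    {B : FusionSystem U} {E₁ : FusionSystem X} {F : FusionSystem S} (hB : B.IsSaturated p)
    (hE₁ : E₁.IsNormalIn B p) (hBF : B.IsSubsystemOf F) {W : Subgroup Ω} (hW : W ≤ U)
    (hc : E₁.IsCentric (W ⊓ X)) {α : MulAut W} (hα : α ∈ F.autGroup W)
    (ho : (orderOf α).Coprime p) (hT : TMod X W (autFun α))
    (hE : IsMap E₁ (W ⊓ X) (autFun α)) :
    ∃ (W₂ : Subgroup Ω) (v : Ω → Ω) (e : W ≃* W₂), IsMap B W v ∧ fimg v W = W₂ ∧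
      (∀ x : W, (e x : Ω) = v x) ∧ B.IsFullyNormalized W₂ ∧
      MulAut.congr e α ∈ F.autGroup W₂ ∧
      ∃ β ∈ B.autGroup W₂, TMod X W₂ (autFun β) ∧ TMod X W₂ (autFun (MulAut.congr e α)) ∧
        ∀ x ∈ W₂ ⊓ X, autFun β x = autFun (MulAut.congr e α) x := by
  have hI : E₁.IsInvariantIn B := hE₁.1.2.2
  have hX := hI.2.1
  obtain ⟨W₂, hW₂, hn, hQn⟩ := exists_conj_fn_sys hU hB hX hW
  obtain ⟨v, hv, rfl⟩ := isConj_iff.1 hW₂
  obtain ⟨e, he, heF⟩ := exists_mulEquiv (hv.mono hBF) rfl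
  have hWS : W ≤ S := (hv.mono hBF).source_le
  haveI := finite_of_le hW
  set α₂ := MulAut.congr e α
  have hv' : ∀ x ∈ W, autFun α₂ (v x) = v (autFun α x) := fun x hx =>
    InvMap.autFun_congr e he α hx
  have hT₂ : TMod X (fimg v W) (autFun α₂) := fun y hy => by
    obtain ⟨x, hx, rfl⟩ := hv.mem_fimg_iff.1 hy
    rw [hv' x hx, ← hv.map_inv hx, ← hv.map_mul (W.inv_mem hx) (autFun_mem α hx)]
    exact StronglyClosed.apply_mem hX (hv.res inf_le_left) (inf_le_right : W ⊓ X ≤ X)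
      ⟨W.mul_mem (W.inv_mem hx) (autFun_mem α hx), hT x hx⟩
  have hm := hv.res (inf_le_left : W ⊓ X ≤ W)
  have himg : fimg v (W ⊓ X) = fimg v W ⊓ X := InvClass.fimg_inf hX hv
  have hE₂ : IsMap E₁ (fimg v W ⊓ X) (autFun α₂) := by
    obtain ⟨γ, hγ, hγe⟩ := exists_trace hI hE
    obtain ⟨e', he', -⟩ := exists_mulEquiv hm himg
    have hγ' := InvClass.congr_autGroup hI inf_le_right hm himg e' he' hγ
    refine ((mem_autGroup inf_le_right).1 hγ').congr fun y hy => ?_
    obtain ⟨z, hz, rfl⟩ := hm.mem_fimg_iff.1 (himg.ge hy)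
    rw [InvMap.autFun_congr e' he' γ hz, hv' z hz.1, hγe z hz]
  have ho₂ : (orderOf α₂).Coprime p := by rw [MulEquiv.orderOf_eq]; exact ho
  obtain ⟨β, hβ, hβT, hβe⟩ := exists_lift_trace hU hB hE₁ hn.1 hQn
    (himg ▸ InvClass.centric_transport hI hc hm) hT₂ ho₂ hE₂
  exact ⟨_, v, e, hv, rfl, he, hn, (heF α).1 hα, β, hβ, hβT, hT₂, hβe⟩

/-- Pulling an automorphism back along a map of the system. -/
theorem isMap_of_congr {U : Subgroup Ω} [Finite U] {B : FusionSystem U} {W W₂ : Subgroup Ω}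
    {v : Ω → Ω} (hv : IsMap B W v) (hvW : fimg v W = W₂) (e : W ≃* W₂)
    (he : ∀ x : W, (e x : Ω) = v x) {α : MulAut W} (h : MulAut.congr e α ∈ B.autGroup W₂) :
    IsMap B W (autFun α) := by
  obtain ⟨e₀, he₀, hA⟩ := exists_mulEquiv hv hvW
  have hee : e₀ = e := MulEquiv.ext fun x => Subtype.ext ((he₀ x).trans (he x).symm)
  subst hee
  exact (mem_autGroup hv.source_le).1 ((hA α).2 h)

/-- A saturated system over the same group with the same normal subsystem of `p`-power index is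
contained in its saturated subsystem. -/
theorem le_of_sub {U X : Subgroup Ω} [Finite U] (hU : IsPGroup p U) {A B : FusionSystem U}
    {E₁ : FusionSystem X} (hA : A.IsSaturated p) (hB : B.IsSaturated p)
    (hBA : B.IsSubsystemOf A) (hA₁ : E₁.IsNormalIn A p) (hB₁ : E₁.IsNormalIn B p)
    (hi : E₁.HasPPowerIndexIn A p) : A.IsSubsystemOf B := by
  have hX : A.StronglyClosed X := hA₁.1.2.2.2.1
  refine le_of_centric_coprime le_rfl hU hA fun W hc hn hr α hα ho => ?_
  have hW := hn.1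
  obtain ⟨W₂, v, e, hv, hvW, he, hn₂, hα₂, β, hβ, hβT, hT₂, hβe⟩ :=
    exists_moved_lift hU hB hB₁ hBA hW (centric_inf hU hA hA₁ hc hr) hα ho
      (tmod_of_coprime hi.2.1 hW hα ho) (trace_of_coprime hX hi hW hα ho)
  have hW₂ := hn₂.1
  haveI := finite_of_le hW₂
  have hAn₂ : A.IsFullyNormalized W₂ := ⟨hW₂, fun R hR => by
    have h1 := hn.2 R (isConj_trans (hvW ▸ (hv.mono hBA).isConj : A.IsConj W W₂) hR)
    exact h1.trans (hn₂.2 W (isConj_symm (hvW ▸ hv.isConj)))⟩
  let δ : A.autGroup W₂ := ⟨MulAut.congr e α, hα₂⟩⁻¹ * ⟨β, autGroup_mono hBA W₂ hβ⟩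
  have hδ : δ ∈ Kst A X W₂ hX := by
    rw [mem_Kst_iff]
    refine ⟨fun x hx => ?_, fun x hx => ?_⟩
    · show autFun ((MulAut.congr e α)⁻¹ * β) x = x
      rw [autFun_mul _ _ hx.1, hβe x hx, autFun_inv_apply _ hx.1]
    · show x⁻¹ * autFun ((MulAut.congr e α)⁻¹ * β) x ∈ X
      rw [autFun_mul _ _ hx]
      have hy := autFun_mem β hx
      have h1 := hT₂ _ (autFun_mem (MulAut.congr e α)⁻¹ hy)
      rw [← autFun_mul _ _ hy, mul_inv_cancel, autFun_one hy] at h1
      exact tcong_trans (hβT x hx) (by simpa using X.inv_mem h1)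
  have hδB : (δ : MulAut W₂) ∈ B.autGroup W₂ := autInducedBy_le_autGroup B hW₂
    (Kst_le_autInducedBy hU (fullyAutomized_of_fullyNormalized hU hA hAn₂) hδ)
  refine isMap_of_congr hv hvW e he ?_
  have h2 := mul_mem hβ (inv_mem hδB)
  rwa [show β * ((δ : A.autGroup W₂) : MulAut W₂)⁻¹ = MulAut.congr e α by simp [δ]] at h2

theorem pow_card_eq_one_of_chain {X W : Subgroup Ω} [Finite W] {δ : MulAut W}
    (hfix : ∀ x ∈ W ⊓ X, autFun δ x = x) (hT : TMod X W (autFun δ)) :
    δ ^ Nat.card W = 1 := by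
  refine MulEquiv.ext fun x => ?_
  set d := x⁻¹ * δ x with hd
  have hdX : (d : Ω) ∈ X := by
    have := hT x x.2
    rwa [autFun_coe] at this
  have hδd : δ d = d := Subtype.ext (by rw [← autFun_coe]; exact hfix d ⟨d.2, hdX⟩)
  have key : ∀ i : ℕ, (δ ^ i) x = x * d ^ i := by
    intro i
    induction i with
    | zero => simp
    | succ i ih =>
      rw [pow_succ', MulAut.mul_apply, ih, map_mul, map_pow, hδd, pow_succ',
        show δ x = x * d by rw [hd]; group, mul_assoc]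
  rw [key, pow_card_eq_one', mul_one]
  rfl

/-- A saturated subsystem of `F` with a common normal subsystem of `p`-power index lies in the
invariant one. -/
theorem le_of_invariant {S U X : Subgroup Ω} [Finite S] [Finite U] (hU : IsPGroup p U)
    {F : FusionSystem S} {A B : FusionSystem U} {E₁ : FusionSystem X} (hA : A.IsSaturated p)
    (hB : B.IsSaturated p) (hAF : A.IsSubsystemOf F) (hBI : B.IsInvariantIn F)
    (hA₁ : E₁.IsNormalIn A p) (hB₁ : E₁.IsNormalIn B p) (hi : E₁.HasPPowerIndexIn A p) :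
    A.IsSubsystemOf B := by
  have hX : A.StronglyClosed X := hA₁.1.2.2.2.1
  refine le_of_centric_coprime le_rfl hU hA fun W hc hn hr α hα ho => ?_
  have hW := hn.1
  obtain ⟨W₂, v, e, hv, hvW, he, hn₂, hα₂, β, hβ, hβT, hT₂, hβe⟩ :=
    exists_moved_lift hU hB hB₁ hBI.1 hW (centric_inf hU hA hA₁ hc hr)
      (autGroup_mono hAF W hα) ho (tmod_of_coprime hi.2.1 hW hα ho)
      (trace_of_coprime hX hi hW hα ho)
  have hW₂ := hn₂.1
  haveI := finite_of_le hW₂
  refine isMap_of_congr hv hvW e he ?_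
  let H : Subgroup (F.autGroup W₂) := (B.autGroup W₂).subgroupOf (F.autGroup W₂)
  haveI : H.Normal := ⟨fun a ha g => Subgroup.mem_subgroupOf.2
    (autGroup_conj_mem hBI hW₂ g.2 (Subgroup.mem_subgroupOf.1 ha))⟩
  let a' : F.autGroup W₂ := ⟨MulAut.congr e α, hα₂⟩
  let b' : F.autGroup W₂ := ⟨β, autGroup_mono hBI.1 W₂ hβ⟩
  have hpow : (a'⁻¹ * b') ^ Nat.card W₂ = 1 := by
    refine Subtype.ext (pow_card_eq_one_of_chain (X := X) (δ := (MulAut.congr e α)⁻¹ * β)
      (fun x hx => ?_) fun x hx => ?_)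
    · rw [autFun_mul _ _ hx.1, hβe x hx, autFun_inv_apply _ hx.1]
    · rw [autFun_mul _ _ hx]
      have hy := autFun_mem β hx
      have h1 := hT₂ _ (autFun_mem (MulAut.congr e α)⁻¹ hy)
      rw [← autFun_mul _ _ hy, mul_inv_cancel, autFun_one hy] at h1
      exact tcong_trans (hβT x hx) (by simpa using X.inv_mem h1)
  have hb : (QuotientGroup.mk b' : F.autGroup W₂ ⧸ H) = 1 :=
    (QuotientGroup.eq_one_iff b').2 hβ
  have h1 : (QuotientGroup.mk a' : F.autGroup W₂ ⧸ H) ^ Nat.card W₂ = 1 := by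
    have h2 := congrArg (QuotientGroup.mk' H) hpow
    rw [map_pow, map_mul, map_inv, map_one] at h2
    simp only [QuotientGroup.mk'_apply, hb, mul_one, inv_pow, inv_eq_one] at h2
    exact h2
  obtain ⟨n, hn'⟩ := (hU.to_le hW₂).exists_card_eq
  rw [hn', ← QuotientGroup.mk_pow, QuotientGroup.eq_one_iff] at h1
  obtain ⟨u, hu⟩ := exists_pow_ppow_eq (x := MulAut.congr e α) (p := p)
    (by rw [MulEquiv.orderOf_eq]; exact ho) n
  exact hu ▸ pow_mem (Subgroup.mem_subgroupOf.1 h1) u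

end Cfsg.Agent.Fus.ProdSub
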