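import Mathlib
import Cfsg.Agent.Lib.Fus.ProdSub.Receptive
import Cfsg.Agent.Lib.Fus.ProdSub.Residual
import Cfsg.Agent.Lib.Fus.PPowerChain

/-!
The hyperfocal subgroup, the residual and the uniqueness of the product system.
-/

set_option autoImplicit false
set_option linter.style.haveILetI false
set_option linter.unusedSectionVars false

open scoped Classical

universe u

namespace Cfsg.Agent.Fus.ProdSub

open Subgroup FusionSystem

variable {Ω : Type u} [Group Ω] {S T R : Subgroup Ω} {F : FusionSystem S} {E : FusionSystem T}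
  {p : ℕ} [Finite S] [Fact p.Prime] (hS : IsPGroup p S) (hF : F.IsSaturated p)
  (hE : E.IsNormalIn F p) (hTR : T ≤ R) (hRS : R ≤ S)

include hS hE in
theorem sys_hyperfocal_le : (sys F E p hRS).hyperfocalSubgroup p ≤ E.hyperfocalSubgroup p := by
  have hI : E.IsInvariantIn F := hE.1.2.2
  refine hyperfocal_le_iff.2 fun W hW a ha => ?_
  rw [pResidual] at ha
  induction ha using Subgroup.closure_induction with
  | one =>
    intro x hx
    rw [Subgroup.coe_one, autFun_one hx, inv_mul_cancel]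
    exact Subgroup.one_mem _
  | mul a b _ _ iha ihb =>
    intro x hx
    rw [Subgroup.coe_mul, autFun_mul _ _ hx]
    exact tcong_trans (ihb x hx) (iha _ (autFun_mem _ hx))
  | inv a _ ih =>
    intro x hx
    have h1 := ih _ (autFun_mem (a : MulAut W)⁻¹ hx)
    rw [← autFun_mul _ _ hx, mul_inv_cancel, autFun_one hx] at h1
    rw [Subgroup.coe_inv]
    simpa using Subgroup.inv_mem _ h1
  | mem a ha =>
    have hgd : Gd F E p (a : MulAut W) :=
      gd_of_sys hS hI hW a.2 (by rw [Subgroup.orderOf_coe]; exact ha)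
    haveI := finite_of_le (hW.trans hRS)
    refine coprime_mod (hS.to_le (hW.trans hRS)) hgd.coprime hgd.tmod (fun q hq hqT => ?_)
      fun m hm _ => hyperfocal_le E p hm
    obtain ⟨γ, hγ, hγe⟩ := exists_trace hI hgd.inE
    have ho : (orderOf γ).Coprime p := by
      refine hgd.coprime.coprime_dvd_left (orderOf_dvd_of_pow_eq_one (mulAut_ext fun x hx => ?_))
      rw [← autFun_pow_eq inf_le_left (fun y hy => (hγe y hy).symm) _ x hx, pow_orderOf_eq_one,
        autFun_one hx.1, autFun_one hx]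
    rw [← hγe q ⟨hq, hqT⟩]
    exact hyperfocal_mem (α := ⟨γ, hγ⟩) inf_le_right (Transfer.mem_pResidual_of_coprime
      (by rw [← Subgroup.orderOf_coe]; exact ho)) ⟨hq, hqT⟩

include hS hE hTR in
/-- The normal subsystem is contained in the product. -/
theorem le_sys : E.IsSubsystemOf (sys F E p hRS) := by
  have hI : E.IsInvariantIn F := hE.1.2.2
  haveI : Finite T := finite_of_le hI.2.1.1
  refine le_of_centric_coprime hTR (hS.to_le hI.2.1.1) hE.1.1 fun W hc hn hr α hα ho => ?_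
  have hm : IsMap E W (autFun α) := (mem_autGroup hn.1).1 hα
  refine isMap_sys.2 (.aut (hn.1.trans hTR) (by rwa [inf_eq_left.2 hn.1])
    ⟨hm.mono hI.1, ho, fun x hx => T.mul_mem (T.inv_mem (hn.1 hx)) (hn.1 (autFun_mem α hx)),
      by rwa [inf_eq_left.2 hn.1]⟩ le_rfl fun _ _ => rfl)

include hS hE hTR in
theorem sys_hyperfocal :
    (sys F E p hRS).hyperfocalSubgroup p = E.hyperfocalSubgroup p := by
  refine le_antisymm (sys_hyperfocal_le hS hE hRS) (hyperfocal_le_iff.2 fun W hW a ha x hx => ?_)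
  exact hyperfocal_mem (F := sys F E p hRS) (hW.trans hTR) (Transfer.pResidual_map_le
    (Subgroup.inclusion (autGroup_mono (le_sys hS hE hTR hRS) W)) ⟨a, ha, rfl⟩) hx

include hS hE hTR in
theorem sys_pPower : E.HasPPowerIndexIn (sys F E p hRS) p := by
  have hI : E.IsInvariantIn F := hE.1.2.2
  refine hasPPowerIndexIn_of_coprime (le_sys hS hE hTR hRS)
    ((sys_hyperfocal_le hS hE hRS).trans (hyperfocal_le E p)) fun P hP α hα ho => ?_
  have hgd := gd_of_sys hS hI (hP.trans hTR) hα ho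
  refine (mem_autGroup hP).2 ?_
  have := hgd.inE
  rwa [inf_eq_left.2 hP] at this

include hS hE hTR in
/-- The `p`-residual of the product is that of the normal subsystem. -/
theorem sys_residual (D₁ : FusionSystem ((sys F E p hRS).hyperfocalSubgroup p))
    (E₁ : FusionSystem (E.hyperfocalSubgroup p)) (hD₁ : (sys F E p hRS).IsPResidual p D₁)
    (hE₁ : E.IsPResidual p E₁) (P : Subgroup Ω) : D₁.Hom P = E₁.Hom P := by
  haveI : Finite R := finite_of_le hRS
  have hi := sys_pPower hS hE hTR hRS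
  refine hom_eq_of_pPowerIndex (sys_hyperfocal hS hE hTR hRS) (hyperfocal_le _ p) (hS.to_le hRS)
    hD₁.1 hD₁.2 hE₁.1 (hasPPowerIndexIn_of_coprime (fun Q φ h => hi.1 Q (hE₁.2.1 Q h))
      (sys_hyperfocal_le hS hE hRS) fun Q hQ α hα ho => ?_) P
  exact mem_of_coprime hE₁.2 hQ (mem_of_coprime hi (hQ.trans (hyperfocal_le E p)) hα ho) ho

include hS hF hE hTR in
/-- Uniqueness of the product. -/
theorem sys_unique {D' : FusionSystem R} (hD' : D'.IsSaturated p) (hD'F : D'.IsSubsystemOf F)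
    (hhyp : D'.hyperfocalSubgroup p = E.hyperfocalSubgroup p)
    (hres : ∀ (D₁ : FusionSystem (D'.hyperfocalSubgroup p))
      (E₁ : FusionSystem (E.hyperfocalSubgroup p)), D'.IsPResidual p D₁ → E.IsPResidual p E₁ →
        ∀ P : Subgroup Ω, D₁.Hom P = E₁.Hom P) (P : Subgroup Ω) :
    D'.Hom P = (sys F E p hRS).Hom P := by
  have hI : E.IsInvariantIn F := hE.1.2.2
  have hT := hI.2.1
  haveI : Finite R := finite_of_le hRS
  haveI : Finite T := finite_of_le hT.1
  have hRp : IsPGroup p R := hS.to_le hRS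
  have hTp : IsPGroup p T := hS.to_le hT.1
  have hT₀ : E.hyperfocalSubgroup p ≤ T := hyperfocal_le E p
  have hD'T : D'.hyperfocalSubgroup p ≤ T := hhyp ▸ hT₀
  have hT₀n : ∀ s ∈ T, ∀ x ∈ E.hyperfocalSubgroup p, s * x * s⁻¹ ∈ E.hyperfocalSubgroup p :=
    fun s hs x hx => hyperfocal_conj_mem hs hx
  obtain ⟨E₁, hE₁s, hE₁i⟩ := PPowerExist.exists_pPowerIndex hTp hE.1.1 hT₀ le_rfl
  obtain ⟨D₁, hD₁s, hD₁i⟩ := PPowerExist.exists_pPowerIndex hRp hD' (hyperfocal_le D' p) le_rfl
  have hDE : ∀ Q, D₁.Hom Q = E₁.Hom Q := hres D₁ E₁ ⟨hD₁s, hD₁i⟩ ⟨hE₁s, hE₁i⟩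
  obtain ⟨E', hE's, hE'i⟩ := PPowerExist.exists_pPowerIndex hRp hD' hTR hD'T
  -- the residual lies in both systems over `T`
  have hE₁D' : E₁.IsSubsystemOf D' := fun Q φ h => hD₁i.1 Q ((hDE Q).symm ▸ h)
  have hE₁E' : E₁.IsSubsystemOf E' := by
    haveI : Finite ↥(E.hyperfocalSubgroup p) := finite_of_le hT₀
    refine le_of_centric_coprime hT₀ (hTp.to_le hT₀) hE₁s fun W hc hn hr α hα ho => ?_
    exact (mem_autGroup (hn.1.trans hT₀)).1
      (mem_of_coprime hE'i (hn.1.trans hT₀) (autGroup_mono hE₁D' W hα) ho)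
  have hE'hyp : E'.hyperfocalSubgroup p ≤ E.hyperfocalSubgroup p := by
    rw [← hhyp]
    exact hyperfocal_le_iff.2 fun W hW a ha x hx => hyperfocal_mem (F := D') (hW.trans hTR)
      (Transfer.pResidual_map_le (Subgroup.inclusion (autGroup_mono hE'i.1 W)) ⟨a, ha, rfl⟩) hx
  have hE₁i' : E₁.HasPPowerIndexIn E' p :=
    hasPPowerIndexIn_of_coprime hE₁E' hE'hyp fun Q hQ α hα ho => by
      have h1 := mem_of_coprime hD₁i (hhyp.symm ▸ hQ) (autGroup_mono hE'i.1 Q hα) ho
      unfold FusionSystem.autGroup at h1 ⊢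
      rwa [hDE Q] at h1
  have hN := normal_of_pPower hTp hE.1.1 hT₀ hT₀n hE₁s hE₁i
  have hN' := normal_of_pPower hTp hE's hT₀ hT₀n hE₁s hE₁i'
  have hle : E'.IsSubsystemOf E := le_of_invariant hTp hE's hE.1.1
    (fun Q φ h => hD'F Q (hE'i.1 Q h)) hI hN' hN hE₁i'
  have hge : E.IsSubsystemOf E' := le_of_sub hTp hE.1.1 hE's hle hN hN' hE₁i
  obtain rfl : E' = E := eq_of_hom_eq fun Q => Set.Subset.antisymm (hle Q) (hge Q)
  have hTn : ∀ s ∈ R, ∀ x ∈ T, s * x * s⁻¹ ∈ T := fun s hs x hx =>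
    StronglyClosed.conj_mem' hT (hRS hs) hx
  have hED' := normal_of_pPower hRp hD' hTR hTn hE.1.1 hE'i
  have hsat := sys_saturated hS hF hE hTR hRS
  have hED := normal_of_pPower hRp hsat hTR hTn hE.1.1 (sys_pPower hS hE hTR hRS)
  have hsub : D'.IsSubsystemOf (sys F E' p hRS) :=
    le_of_centric_coprime le_rfl hRp hD' fun W hc hn hr α hα ho => isMap_sys.2
      (.aut hn.1 (centric_inf hRp hD' hED' hc hr)
        ⟨((mem_autGroup hn.1).1 hα).mono hD'F, ho, tmod_of_coprime hD'T hn.1 hα ho,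
          trace_of_coprime hED'.1.2.2.2.1 hE'i hn.1 hα ho⟩ le_rfl fun _ _ => rfl)
  exact Set.Subset.antisymm (hsub P)
    (le_of_sub hRp hsat hD' hsub hED hED' (sys_pPower hS hE hTR hRS) P)

end Cfsg.Agent.Fus.ProdSub
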